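import Groth.Agent.Resolve.K374.PtFib
import Groth.Agent.Resolve.K372.FinSing
import Groth.Agent.AutSch.K936.Birational

/-!
# Proper birational morphisms to normal schemes of dimension at most two (helper955)

`g : X ⟶ Y` proper, birational, `Y` normal integral Noetherian with local rings of dimension at most two:
`g` is an isomorphism outside of a finite set of closed points of `Y` (`exists_finite_bad`).
-/

set_option autoImplicit false
universe u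
open CategoryTheory CategoryTheory.Limits AlgebraicGeometry TopologicalSpace

namespace K955.BadPts

theorem isIso_image_iff {X Y : Scheme.{u}} (g : X ⟶ Y) (W : Y.Opens) (V : W.toScheme.Opens) :
    IsIso ((g ∣_ W) ∣_ V) ↔ IsIso (g ∣_ (W.ι ''ᵁ V)) :=
  (MorphismProperty.isomorphisms Scheme.{u}).arrow_mk_iso_iff (morphismRestrictRestrict g W V)

theorem isIso_comp_iff {X Y Z : Scheme.{u}} (g : X ⟶ Y) (e : Y ≅ Z) (V : Z.Opens) :
    IsIso ((g ≫ e.hom) ∣_ V) ↔ IsIso (g ∣_ (e.hom ⁻¹ᵁ V)) := by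
  rw [morphismRestrict_comp]
  constructor
  · intro h
    have h' : IsIso ((g ∣_ (e.hom ⁻¹ᵁ V)) ≫ (e.hom ∣_ V)) := h
    exact IsIso.of_isIso_comp_right _ (e.hom ∣_ V)
  · intro h
    change IsIso ((g ∣_ (e.hom ⁻¹ᵁ V)) ≫ (e.hom ∣_ V))
    infer_instance

theorem le_one_of_not (a : WithBot ℕ∞) (h : ¬ (2 ≤ a)) : a ≤ 1 := by
  rw [not_le] at h
  cases a with
  | bot => exact bot_le
  | coe a =>
    have h' : a < 1 + 1 := by
      rw [one_add_one_eq_two]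
      exact WithBot.coe_lt_coe.1 h
    have h2 : a ≤ 1 := Order.le_of_lt_add_one h'
    exact_mod_cast h2

theorem inv_hom {X Y : Scheme.{u}} (e : X ≅ Y) (x : X) : e.inv (e.hom x) = x := by
  rw [← Scheme.Hom.comp_apply, Iso.hom_inv_id]
  rfl

theorem exists_isIso_near {X Y : Scheme.{u}} [IsIntegral X] [IsIntegral Y] [IsLocallyNoetherian Y]
    (g : X ⟶ Y) [IsProper g] (hbir : ∃ U : Y.Opens, (U : Set Y).Nonempty ∧ IsIso (g ∣_ U))
    (hY : Pi1.IsNormalScheme Y) (y : Y) (hy : ringKrullDim (Y.presheaf.stalk y) ≤ 1) :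
    ∃ V : Y.Opens, y ∈ V ∧ IsIso (g ∣_ V) := by
  obtain ⟨W, hW, hyW, -⟩ := exists_isAffineOpen_mem_and_subset (X := Y) (x := y) (U := ⊤) trivial
  obtain ⟨U, hU, hgU⟩ := hbir
  have : Nonempty W := ⟨⟨y, hyW⟩⟩
  have hWU : ((W ⊓ U : Y.Opens) : Set Y).Nonempty :=
    nonempty_preirreducible_inter W.isOpen U.isOpen ⟨y, hyW⟩ hU
  have hic : IsIntegrallyClosed Γ(Y, W) := Groth.Agent.S2422.isIntegrallyClosed_of_isNormal hY W hW
  have hno : IsNoetherianRing Γ(Y, W) := IsLocallyNoetherian.component_noetherian ⟨W, hW⟩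
  have hgWU : IsIso (g ∣_ (W ⊓ U)) :=
    Groth.Agent.CurvesC.ModDim.isIso_morphismRestrict_of_le g (inf_le_right : W ⊓ U ≤ U)
  have hne : (g ⁻¹ᵁ (W ⊓ U) : Set X).Nonempty :=
    Groth.Agent.CurvesC.ModDim.nonempty_preimage g (W ⊓ U) hWU
  have : Nonempty (g ⁻¹ᵁ W) := by
    obtain ⟨x, hx⟩ := hne
    exact ⟨⟨x, hx.1⟩⟩
  let f' : (g ⁻¹ᵁ W).toScheme ⟶ Spec (CommRingCat.of Γ(Y, W)) := (g ∣_ W) ≫ hW.isoSpec.hom
  have hpr : IsProper f' := inferInstance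
  -- transfer of open sets
  have key : ∀ V' : (Spec (CommRingCat.of Γ(Y, W))).Opens, IsIso (f' ∣_ V') ↔
      IsIso (g ∣_ (W.ι ''ᵁ (hW.isoSpec.hom ⁻¹ᵁ V'))) := fun V' => by
    rw [← isIso_image_iff]
    exact isIso_comp_iff (g ∣_ W) hW.isoSpec V'
  have hbir' : ∃ U' : (Spec (CommRingCat.of Γ(Y, W))).Opens,
      (U' : Set (Spec (CommRingCat.of Γ(Y, W)))).Nonempty ∧ IsIso (f' ∣_ U') := by
    refine ⟨hW.isoSpec.inv ⁻¹ᵁ (W.ι ⁻¹ᵁ U), ?_, ?_⟩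
    · obtain ⟨z, hzW, hzU⟩ := hWU
      refine ⟨hW.isoSpec.hom ⟨z, hzW⟩, ?_⟩
      exact (congrArg (fun t : W.toScheme => W.ι t ∈ U) (inv_hom hW.isoSpec (⟨z, hzW⟩ : W.toScheme))).mpr hzU
    · rw [key]
      have h1 : W.ι ''ᵁ (hW.isoSpec.hom ⁻¹ᵁ (hW.isoSpec.inv ⁻¹ᵁ (W.ι ⁻¹ᵁ U))) ≤ U := by
        rintro _ ⟨z, hz, rfl⟩
        have hz' : W.ι (hW.isoSpec.inv (hW.isoSpec.hom z)) ∈ U := hz
        exact (congrArg (fun t : W.toScheme => W.ι t ∈ U) (inv_hom hW.isoSpec z)).mp hz'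
      exact Groth.Agent.CurvesC.ModDim.isIso_morphismRestrict_of_le g h1
  let p : Spec (CommRingCat.of Γ(Y, W)) := hW.isoSpec.hom ⟨y, hyW⟩
  have hp : p.asIdeal.height ≤ 1 := by
    letI := TopCat.Presheaf.algebra_section_stalk Y.presheaf (⟨y, hyW⟩ : W)
    have hloc := hW.isLocalization_stalk ⟨y, hyW⟩
    have h1 : ringKrullDim (Y.presheaf.stalk y) = p.asIdeal.height := by
      have := IsLocalization.AtPrime.ringKrullDim_eq_height (hW.primeIdealOf ⟨y, hyW⟩).asIdeal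
        (Y.presheaf.stalk y)
      exact this
    rw [h1] at hy
    exact_mod_cast hy
  obtain ⟨V', hpV', hV'⟩ := K374.PtFib.exists_isIso_of_height_le_one f' hbir' p hp
  exact ⟨W.ι ''ᵁ (hW.isoSpec.hom ⁻¹ᵁ V'), ⟨⟨y, hyW⟩, hpV', rfl⟩, (key V').1 hV'⟩

/-- The largest open subset over which `g` is an isomorphism. -/
def isoLocus {X Y : Scheme.{u}} (g : X ⟶ Y) : Y.Opens := sSup {V : Y.Opens | IsIso (g ∣_ V)}

theorem le_isoLocus {X Y : Scheme.{u}} (g : X ⟶ Y) (V : Y.Opens) (h : IsIso (g ∣_ V)) : V ≤ isoLocus g :=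
  le_sSup h

theorem mem_isoLocus {X Y : Scheme.{u}} (g : X ⟶ Y) (y : Y) : y ∈ isoLocus g ↔ ∃ V : Y.Opens, y ∈ V ∧ IsIso (g ∣_ V) := by
  rw [isoLocus, Opens.mem_sSup]
  exact ⟨fun ⟨V, h, hy⟩ => ⟨V, hy, h⟩, fun ⟨V, hy, h⟩ => ⟨V, h, hy⟩⟩

theorem exists_finite_bad {X Y : Scheme.{u}} [IsIntegral X] [IsIntegral Y] [IsNoetherian Y]
    (g : X ⟶ Y) [IsProper g] (hbir : ∃ U : Y.Opens, (U : Set Y).Nonempty ∧ IsIso (g ∣_ U))
    (hY : Pi1.IsNormalScheme Y) (hdim : ∀ y : Y, ringKrullDim (Y.presheaf.stalk y) ≤ 2) :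
    ((isoLocus g : Set Y)ᶜ).Finite ∧ ∀ y ∈ (isoLocus g : Set Y)ᶜ, IsClosed ({y} : Set Y) := by
  have hcl : ∀ y ∈ (isoLocus g : Set Y)ᶜ, IsClosed ({y} : Set Y) := by
    intro y hy
    refine K372.FinSing.isClosed_of_two_le hdim y ?_
    by_contra hlt
    have h1 : ringKrullDim (Y.presheaf.stalk y) ≤ 1 := le_one_of_not _ hlt
    exact hy ((mem_isoLocus g y).2 (exists_isIso_near g hbir hY y h1))
  exact ⟨K372.FinSing.finite_of_isClosed_points (isoLocus g).isOpen.isClosed_compl hcl, hcl⟩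

end K955.BadPts
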