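import Groth.Agent.Divis.CartierStalk
import Groth.Agent.Props.K592.NormLow
import Groth.Agent.Sga3C.QSliceAlg
import Groth.Agent.LoccohB.CMSch
import Groth.Agent.Models.RMBlow
import Groth.Agent.Resolve.K374.PtFib
import Groth.Agent.CurvesC.Modif
import Groth.Agent.Curves.K324.RegPid

/-!
# Effective Cartier divisors on normal surfaces, and the exceptional divisor of the blowing up of a point (helper955)

* `isCM_stalk` : an effective Cartier divisor on a normal locally Noetherian scheme of dimension two is Cohen-Macaulay.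
* `topologicalKrullDim_comap` : for a modification of a normal local ring of dimension two on which the maximal ideal
  becomes invertible, the divisor has dimension one.
-/

set_option autoImplicit false
universe u
open CategoryTheory CategoryTheory.Limits AlgebraicGeometry TopologicalSpace Order

namespace K955.ExcDiv

open Groth.Agent Groth.Agent.Divis.CartierBasic Groth.Agent.Divis.CartierStalk

section cm

variable {X : Scheme.{u}} [IsIntegral X] [IsLocallyNoetherian X] {E : X.IdealSheafData}

omit [IsIntegral X] [IsLocallyNoetherian X] in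
/-- The stalk of an effective Cartier divisor. -/
theorem exists_gen (hE : BlowUp.IsEffCartierIdeal E) (z : E.subscheme) :
    ∃ g : X.presheaf.stalk (E.subschemeι z), g ∈ IsLocalRing.maximalIdeal _ ∧ g ∈ nonZeroDivisors _ ∧
      Nonempty ((X.presheaf.stalk (E.subschemeι z) ⧸ Ideal.span {g}) ≃+* E.subscheme.presheaf.stalk z) := by
  obtain ⟨g, hg, h⟩ := exists_stalkIdeal_eq_span hE (E.subschemeι z)
  have hz : E.subschemeι z ∈ E.support := by
    have h1 : E.subschemeι z ∈ Set.range E.subschemeι := ⟨z, rfl⟩
    rw [Scheme.IdealSheafData.range_subschemeι] at h1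
    exact h1
  have h2 := (mem_support_iff_stalkIdeal_le E (E.subschemeι z)).1 hz
  refine ⟨g, h2 (by rw [h]; exact Ideal.mem_span_singleton_self g), hg,
    ⟨(Ideal.quotEquivOfEq h.symm).trans (stalkQuotEquiv E z)⟩⟩

/-- Effective Cartier divisors on normal surfaces are Cohen-Macaulay. -/
theorem isCM_stalk (hX : Pi1.IsNormalScheme X) (hE : BlowUp.IsEffCartierIdeal E) (z : E.subscheme)
    (hd : ringKrullDim (X.presheaf.stalk (E.subschemeι z)) ≤ 2) :
    LocCoh.IsCohenMacaulayLocalRing (E.subscheme.presheaf.stalk z) := by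
  obtain ⟨g, hgm, hg, ⟨e⟩⟩ := exists_gen hE z
  have hic := (hX (E.subschemeι z)).2
  have hCM : LocCoh.IsCohenMacaulayLocalRing (X.presheaf.stalk (E.subschemeι z)) :=
    K592.NormLow.isCM_of_normal _ hd
  have hreg : IsSMulRegular (X.presheaf.stalk (E.subschemeι z)) g :=
    Module.Flat.isSMulRegular_of_nonZeroDivisors hg
  exact LoccohB.CMSch.isCM_of_ringEquiv e (Sga3C.QSliceAlg.isCM_quotient_span hgm hreg)

omit [IsIntegral X] in
theorem ringKrullDim_stalk_add_one (hE : BlowUp.IsEffCartierIdeal E) (z : E.subscheme) :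
    ringKrullDim (E.subscheme.presheaf.stalk z) + 1 = ringKrullDim (X.presheaf.stalk (E.subschemeι z)) := by
  obtain ⟨g, hgm, hg, ⟨e⟩⟩ := exists_gen hE z
  rw [← ringKrullDim_eq_of_ringEquiv e]
  exact ringKrullDim_quotient_span_singleton_succ_eq_ringKrullDim_of_mem_nonZeroDivisors hg hgm

end cm

theorem one_le_dim_iff (X : Scheme.{u}) : 1 ≤ topologicalKrullDim X ↔ ∃ x y : X, y ⤳ x ∧ x ≠ y := by
  rw [show topologicalKrullDim X = krullDim X from krullDim_eq_of_orderIso irreducibleSetEquivPoints,
    one_le_krullDim_iff]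
  constructor
  · rintro ⟨x, y, h⟩
    exact ⟨x, y, h.le, h.ne⟩
  · rintro ⟨x, y, h, hne⟩
    refine ⟨x, y, lt_of_le_not_ge h fun h' => hne ?_⟩
    exact (Specializes.antisymm (show x ⤳ y from h') (show y ⤳ x from h)).eq

theorem isIso_ι_top (X : Scheme.{u}) : IsIso ((⊤ : X.Opens).ι) := ⟨X.topIso.inv, by simp, by simp⟩

/-- A morphism which is an isomorphism over the whole target is an isomorphism. -/
theorem isIso_of_restrict_top {X Y : Scheme.{u}} (f : X ⟶ Y) (h : IsIso (f ∣_ ⊤)) : IsIso f := by
  have h1 := isIso_ι_top Y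
  have h3 : IsIso ((f ⁻¹ᵁ (⊤ : Y.Opens)).ι) := isIso_ι_top X
  have h4 : IsIso ((f ⁻¹ᵁ (⊤ : Y.Opens)).ι ≫ f) := by rw [← morphismRestrict_ι f ⊤]; infer_instance
  exact IsIso.of_isIso_comp_left (f ⁻¹ᵁ (⊤ : Y.Opens)).ι f

section dim

variable {A : Type u} [CommRing A] [IsDomain A] [IsLocalRing A] [IsNoetherianRing A] [IsIntegrallyClosed A]
  (hdim : ringKrullDim A = 2) {X : Scheme.{u}} {f : X ⟶ Spec (CommRingCat.of A)} (hf : CurvesC.Modif.IsModif f)
  (hE : BlowUp.IsEffCartierIdeal ((Curv2.idealSheaf A (IsLocalRing.maximalIdeal A)).comap f))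

omit [IsDomain A] [IsNoetherianRing A] [IsIntegrallyClosed A] in
theorem mem_support_iff {X : Scheme.{u}} (f : X ⟶ Spec (CommRingCat.of A)) (x : X) :
    x ∈ ((Curv2.idealSheaf A (IsLocalRing.maximalIdeal A)).comap f).support ↔
      f x = IsLocalRing.closedPoint A := by
  rw [Scheme.IdealSheafData.support_comap]
  change f x ∈ (Curv2.idealSheaf A (IsLocalRing.maximalIdeal A)).support ↔ _
  rw [Groth.Agent.Models.RMBlow.mem_support_idealSheaf]
  constructor
  · intro h
    refine PrimeSpectrum.ext ?_
    exact (Ideal.IsMaximal.eq_of_le (IsLocalRing.maximalIdeal.isMaximal A) (f x).isPrime.ne_top h).symm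
  · intro h
    rw [h]
    exact le_rfl

omit [IsIntegrallyClosed A] in
include hf hdim in
theorem dim_le_one : topologicalKrullDim ((Curv2.idealSheaf A (IsLocalRing.maximalIdeal A)).comap f).subscheme ≤ 1 := by
  have := hf.proper
  have := hf.integral
  obtain ⟨U, hU, hfU⟩ := hf.exists_isIso
  have h1 : topologicalKrullDim (f.fiber (IsLocalRing.closedPoint A)) ≤ 1 :=
    CurvesC.ModDim.topologicalKrullDim_fiber_le 1 (by rw [hdim]; rfl) f U hU _ rfl
  refine le_trans ?_ h1
  set E := (Curv2.idealSheaf A (IsLocalRing.maximalIdeal A)).comap f with hEdef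
  have h2 : ∀ z : E.subscheme, E.subschemeι z ∈ f ⁻¹' {IsLocalRing.closedPoint A} := by
    intro z
    have h3 : E.subschemeι z ∈ Set.range E.subschemeι := ⟨z, rfl⟩
    rw [Scheme.IdealSheafData.range_subschemeι] at h3
    exact (mem_support_iff f _).1 h3
  let g : E.subscheme → f.fiber (IsLocalRing.closedPoint A) := fun z =>
    (f.fiberHomeo (IsLocalRing.closedPoint A)).symm ⟨E.subschemeι z, h2 z⟩
  have hg : Topology.IsInducing g := by
    refine (f.fiberHomeo (IsLocalRing.closedPoint A)).symm.isInducing.comp ?_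
    exact E.subschemeι.isEmbedding.isInducing.codRestrict h2
  exact hg.topologicalKrullDim_le

include hf hdim hE in
theorem one_le_dim : 1 ≤ topologicalKrullDim ((Curv2.idealSheaf A (IsLocalRing.maximalIdeal A)).comap f).subscheme := by
  have := hf.proper
  have := hf.integral
  have hS0 : IsNoetherianRing (CommRingCat.of A) := inferInstanceAs (IsNoetherianRing A)
  have hNS : IsNoetherian (Spec (CommRingCat.of A)) := inferInstance
  have hN : IsLocallyNoetherian X := LocallyOfFiniteType.isLocallyNoetherian f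
  have hsurj := hf.surjective
  set E := (Curv2.idealSheaf A (IsLocalRing.maximalIdeal A)).comap f with hEdef
  by_contra hcon
  have hcon' : ∀ x y : E.subscheme, y ⤳ x → x = y := by
    intro x y h
    by_contra hne
    exact hcon ((one_le_dim_iff _).2 ⟨x, y, h, hne⟩)
  obtain ⟨x, hx⟩ := hsurj.surj (IsLocalRing.closedPoint A)
  have hlift : ∀ y : X, f y = IsLocalRing.closedPoint A → ∃ z : E.subscheme, E.subschemeι z = y := by
    intro y hy
    have h3 : y ∈ (E.support : Set X) := (mem_support_iff f _).2 hy
    rw [← Scheme.IdealSheafData.range_subschemeι] at h3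
    exact h3
  have hq : f.QuasiFiniteAt x := by
    refine K374.PtFib.quasiFiniteAt_of_specializes f x fun y z h hy hz => ?_
    rw [hx] at hy hz
    obtain ⟨y', rfl⟩ := hlift y hy
    obtain ⟨z', rfl⟩ := hlift z hz
    have h4 : y' ⤳ z' := (E.subschemeι.isEmbedding.isInducing.specializes_iff).1 h
    rw [hcon' _ _ h4]
  obtain ⟨U, hU, hfU⟩ := hf.exists_isIso
  obtain ⟨V, hV, hfV⟩ := Groth.Agent.S1655.result f U hU hfU (f x) (K374.FibreComp.isIntegrallyClosed_stalk _) x rfl hq
  have hVtop : V = ⊤ := by
    rw [hx] at hV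
    exact IsLocalRing.closed_point_mem_iff.mp hV
  subst hVtop
  have hiso : IsIso f := by
    exact (isIso_of_restrict_top f) hfV
  obtain ⟨z, hz⟩ := hlift x hx
  have h5 := ringKrullDim_stalk_add_one hE z
  have h6 : ringKrullDim (X.presheaf.stalk (E.subschemeι z)) = 2 := by
    rw [hz]
    have h7 : ringKrullDim (X.presheaf.stalk x) = ringKrullDim ((Spec (CommRingCat.of A)).presheaf.stalk (f x)) :=
      (ringKrullDim_eq_of_ringEquiv (asIso (f.stalkMap x)).commRingCatIsoToRingEquiv).symm
    rw [h7, hx, ← hdim]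
    have h8 : (IsLocalRing.closedPoint A : Spec (CommRingCat.of A)).asIdeal = IsLocalRing.maximalIdeal A := rfl
    have h9 : ringKrullDim ((Spec (CommRingCat.of A)).presheaf.stalk (IsLocalRing.closedPoint A)) =
        (IsLocalRing.closedPoint A : Spec (CommRingCat.of A)).asIdeal.height := by
      have hp : (IsLocalRing.closedPoint A : Spec (CommRingCat.of A)).asIdeal.IsPrime := PrimeSpectrum.isPrime _
      rw [← IsLocalization.AtPrime.ringKrullDim_eq_height (IsLocalRing.closedPoint A : Spec (CommRingCat.of A)).asIdeal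
        (Localization.AtPrime (IsLocalRing.closedPoint A : Spec (CommRingCat.of A)).asIdeal)]
      exact ringKrullDim_eq_of_ringEquiv
        (Spec.stalkIso (CommRingCat.of A) (IsLocalRing.closedPoint A)).commRingCatIsoToRingEquiv
    rw [h9]
    exact IsLocalRing.maximalIdeal_height_eq_ringKrullDim (R := A)
  rw [h6] at h5
  have h10 := K324.RegPid.stalk_le_dim E.subscheme z
  apply hcon
  refine le_trans ?_ h10
  by_contra hlt
  rw [not_le] at hlt
  have h11 : ringKrullDim (E.subscheme.presheaf.stalk z) ≤ 0 := by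
    have h12 := hlt
    cases h : ringKrullDim (E.subscheme.presheaf.stalk z) with
    | bot => exact bot_le
    | coe a =>
      rw [h] at h12
      have h13 : a < 1 := WithBot.coe_lt_coe.1 h12
      have h14 : a = 0 := Order.lt_one_iff.1 h13
      rw [h14]
      exact le_rfl
  have h15 : (2 : WithBot ℕ∞) ≤ 0 + 1 := by
    rw [← h5]
    gcongr
  exact absurd h15 (by decide)

include hf hdim hE in
/-- The exceptional divisor has dimension one. -/
theorem dim_eq_one : topologicalKrullDim ((Curv2.idealSheaf A (IsLocalRing.maximalIdeal A)).comap f).subscheme = 1 :=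
  le_antisymm (dim_le_one hdim hf) (one_le_dim hdim hf hE)

omit [IsIntegrallyClosed A] in
include hf hdim hE in
/-- The exceptional divisor of a normal modification is Cohen-Macaulay. -/
theorem isCM_exc (hX : Pi1.IsNormalScheme X)
    (z : ((Curv2.idealSheaf A (IsLocalRing.maximalIdeal A)).comap f).subscheme) :
    LocCoh.IsCohenMacaulayLocalRing
      (((Curv2.idealSheaf A (IsLocalRing.maximalIdeal A)).comap f).subscheme.presheaf.stalk z) := by
  have := hf.proper
  have := hf.integral
  have hS0 : IsNoetherianRing (CommRingCat.of A) := inferInstanceAs (IsNoetherianRing A)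
  have hNS : IsNoetherian (Spec (CommRingCat.of A)) := inferInstance
  have hN : IsLocallyNoetherian X := LocallyOfFiniteType.isLocallyNoetherian f
  refine isCM_stalk hX hE z ?_
  rw [← ringKrullDim_stalk_add_one hE z]
  have h1 := (K324.RegPid.stalk_le_dim _ z).trans (dim_le_one hdim hf)
  calc ringKrullDim (((Curv2.idealSheaf A (IsLocalRing.maximalIdeal A)).comap f).subscheme.presheaf.stalk z) + 1
      ≤ 1 + 1 := by gcongr
    _ = 2 := rfl

end dim

end K955.ExcDiv
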