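import Groth.Agent.VarietyA.LerayH0
import Groth.Agent.VarietyA.LerayEuler
import Groth.Agent.Sga4h.NcLerayAbs
import Mathlib.RingTheory.Length

/-!
# The exact sequence of low degree terms, linearly over the base ring (helper955)

`f : Y ⟶ X` over `Spec A`, `M` an `O_Y`-module with `H^2(X, f_* M) = 0`:
`0 → H^1(X, f_* M) → H^1(Y, M) → H^0(X, R^1 f_* M) → 0` is exact and `A`-linear.
-/

set_option autoImplicit false
universe u
open CategoryTheory CategoryTheory.Limits AlgebraicGeometry Opposite TopologicalSpace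

namespace K955.LerayLow

open Groth.Agent Groth.Agent.VarietyA

section alg

variable {A : Type*} [CommRing A] {P N L : Type*} [AddCommGroup P] [AddCommGroup N] [AddCommGroup L]
  [Module A P] [Module A N] [Module A L]

theorem exists_factor (s : P →ₗ[A] N) (hs : Function.Surjective s) (t : P →ₗ[A] L)
    (h : ∀ x, s x = 0 → t x = 0) : ∃ b : N →ₗ[A] L, ∀ x, b (s x) = t x := by
  refine ⟨((LinearMap.ker s).liftQ t fun x hx => h x hx) ∘ₗ
    (s.quotKerEquivOfSurjective hs).symm.toLinearMap, fun x => ?_⟩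
  have : (s.quotKerEquivOfSurjective hs).symm (s x) = Submodule.Quotient.mk x := by
    rw [LinearEquiv.symm_apply_eq]
    rfl
  simp only [LinearMap.comp_apply, LinearEquiv.coe_coe, this]
  exact Submodule.liftQ_apply _ _ _

variable {I0 K0 H1 : Type*} [AddCommGroup I0] [AddCommGroup K0] [AddCommGroup H1]
  [Module A I0] [Module A K0] [Module A H1]

theorem exists_maps (j : K0 →ₗ[A] P) (hj : Function.Injective j) (r : P →ₗ[A] L)
    (hr : Function.Surjective r) (hjr : Function.Exact j r) (w : I0 →ₗ[A] K0) (d₁ : K0 →ₗ[A] H1)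
    (hd₁ : Function.Surjective d₁) (hw : Function.Exact w d₁) (d : P →ₗ[A] N)
    (hd : Function.Surjective d) (hjw : Function.Exact (j ∘ₗ w) d) :
    ∃ (a : H1 →ₗ[A] N) (b : N →ₗ[A] L), Function.Injective a ∧ Function.Exact a b ∧
      Function.Surjective b ∧ (∀ x, a (d₁ x) = d (j x)) ∧ ∀ x, b (d x) = r x := by
  obtain ⟨a, ha⟩ := exists_factor d₁ hd₁ (d ∘ₗ j) fun x hx => by
    obtain ⟨y, rfl⟩ := (hw x).1 hx
    exact (hjw (j (w y))).2 ⟨y, rfl⟩
  obtain ⟨b, hb⟩ := exists_factor d hd r fun x hx => by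
    obtain ⟨y, rfl⟩ := (hjw x).1 hx
    exact (hjr _).2 ⟨w y, rfl⟩
  refine ⟨a, b, ?_, ?_, ?_, ha, hb⟩
  · rw [injective_iff_map_eq_zero]
    intro y hy
    obtain ⟨x, rfl⟩ := hd₁ y
    rw [ha] at hy
    obtain ⟨z, hz⟩ := (hjw _).1 hy
    exact (hw x).2 ⟨z, hj hz⟩
  · intro y
    constructor
    · intro hy
      obtain ⟨x, rfl⟩ := hd y
      rw [hb] at hy
      obtain ⟨z, rfl⟩ := (hjr _).1 hy
      exact ⟨d₁ z, ha z⟩
    · rintro ⟨x, rfl⟩
      obtain ⟨z, rfl⟩ := hd₁ x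
      rw [ha]
      simp only [LinearMap.comp_apply]
      rw [hb]
      exact (hjr _).2 ⟨z, rfl⟩
  · intro y
    obtain ⟨x, rfl⟩ := hr y
    exact ⟨d x, hb x⟩

end alg

variable {A : Type u} [CommRing A] {X Y : Scheme.{u}} (f : Y ⟶ X)
  [X.Over (Spec (CommRingCat.of A))] [Y.Over (Spec (CommRingCat.of A))]
  (hf : f ≫ (X ↘ (Spec (CommRingCat.of A))) = Y ↘ (Spec (CommRingCat.of A)))

include hf in
theorem appTop_toGlobal (a : A) :
    (f.appTop).hom (Coh.toGlobal (X ↘ (Spec (CommRingCat.of A))) a) =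
      Coh.toGlobal (Y ↘ (Spec (CommRingCat.of A))) a := by
  have h := congrArg (fun g => Scheme.Hom.appTop g) hf
  rw [Scheme.Hom.comp_appTop] at h
  have h2 := congrArg (fun g : Γ(Spec (CommRingCat.of A), ⊤) ⟶ Γ(Y, ⊤) =>
    g.hom ((Scheme.ΓSpecIso (CommRingCat.of A)).inv.hom a)) h
  exact h2

/-- `H^0(X, f_* M) = H^0(Y, M)`, `A`-linearly. -/
noncomputable def pushLin (M : Y.Modules) :
    Coh.HH X ((Scheme.Modules.pushforward f).obj M) 0 ≃ₗ[A] Coh.HH Y M 0 where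
  __ := LerayH0.pushEquiv f M
  map_smul' a x := by
    change LerayH0.pushEquiv f M (a • x) = a • LerayH0.pushEquiv f M x
    rw [EulerLES.smulOver_def, LerayH0.pushEquiv_smul, EulerLES.smulOver_def]
    congr 1
    exact appTop_toGlobal f hf a

theorem pushLin_map {M N : Y.Modules} (φ : M ⟶ N)
    (x : Coh.HH X ((Scheme.Modules.pushforward f).obj M) 0) :
    pushLin f hf N (EulerLES.mapA A ((Scheme.Modules.pushforward f).map φ) 0 x) =
      EulerLES.mapA A φ 0 (pushLin f hf M x) :=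
  LerayH0.pushEquiv_map f φ x

section abs

variable {P Q R : X.Modules} (i : P ⟶ Q) (q : Q ⟶ R) (w : i ≫ q = 0) (hS : (ShortComplex.mk i q w).ShortExact)

include hS in
/-- The beginning of the cohomology sequence. -/
theorem exists_delta (n : ℕ) : ∃ d : Coh.HH X R n →ₗ[A] Coh.HH X P (n + 1),
    Function.Exact (EulerLES.mapA A q n) d ∧ Function.Exact d (EulerLES.mapA A i (n + 1)) :=
  ⟨EulerLES.deltaA A _ hS n (n + 1) rfl, EulerLES.exactA₃ A _ hS n (n + 1) rfl, EulerLES.exactA₁ A _ hS n (n + 1) rfl⟩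

include hS in
theorem exact_mid (n : ℕ) : Function.Exact (EulerLES.mapA A i n) (EulerLES.mapA A q n) :=
  EulerLES.exactA₂ A _ hS n

include hS in
theorem inj_zero : Function.Injective (EulerLES.mapA A i 0) := by
  have h := EulerLES.injectiveA₀ A _ hS
  exact h

end abs

/-- The exact sequence of low degree terms, abstractly. -/
theorem exists_low_aux {F0 I0 K0 G0 R1 : X.Modules} {M I N : Y.Modules} (i : F0 ⟶ I0) (v : I0 ⟶ K0) (wiv : i ≫ v = 0)
    (h1 : (ShortComplex.mk i v wiv).ShortExact) (j : K0 ⟶ G0) (r : G0 ⟶ R1) (wjr : j ≫ r = 0)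
    (h2 : (ShortComplex.mk j r wjr).ShortExact) (m : M ⟶ I) (p : I ⟶ N) (wmp : m ≫ p = 0)
    (h3 : (ShortComplex.mk m p wmp).ShortExact) (θI : Coh.HH X I0 0 ≃ₗ[A] Coh.HH Y I 0)
    (θN : Coh.HH X G0 0 ≃ₗ[A] Coh.HH Y N 0)
    (hθ : ∀ x, θN (EulerLES.mapA A j 0 (EulerLES.mapA A v 0 x)) = EulerLES.mapA A p 0 (θI x))
    (hF2 : Subsingleton (Coh.HH X F0 2)) (hI1 : Subsingleton (Coh.HH X I0 1))
    (hY1 : Subsingleton (Coh.HH Y I 1)) :
    ∃ (a : Coh.HH X F0 1 →ₗ[A] Coh.HH Y M 1) (b : Coh.HH Y M 1 →ₗ[A] Coh.HH X R1 0),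
      Function.Injective a ∧ Function.Exact a b ∧ Function.Surjective b := by
  obtain ⟨d₁, hd₁, hd₁'⟩ := exists_delta (A := A) i v wiv h1 0
  obtain ⟨d₁₁, hd₁₁, hd₁₁'⟩ := exists_delta (A := A) i v wiv h1 1
  have hj := inj_zero (A := A) j r wjr h2
  have hjr := exact_mid (A := A) j r wjr h2 0
  obtain ⟨e₁, he₁, he₁'⟩ := exists_delta (A := A) j r wjr h2 0
  obtain ⟨d, hd, hd'⟩ := exists_delta (A := A) m p wmp h3 0
  have hK1 : ∀ x : Coh.HH X K0 1, x = 0 := by
    intro x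
    have hx : d₁₁ x = 0 := Subsingleton.elim _ _
    obtain ⟨y, rfl⟩ := (hd₁₁ x).1 hx
    have hy : y = 0 := hI1.elim _ _
    rw [hy, map_zero]
  obtain ⟨a, b, ha, hab, hb, -, -⟩ := exists_maps (EulerLES.mapA A j 0) hj (EulerLES.mapA A r 0)
    (fun y => (he₁ y).1 (hK1 _)) hjr (EulerLES.mapA A v 0) d₁ (fun y => (hd₁' y).1 (hI1.elim _ _)) hd₁
    (d ∘ₗ θN.toLinearMap) (fun y => by
      obtain ⟨x, hx⟩ := (hd' y).1 (hY1.elim _ _)
      exact ⟨θN.symm x, by rw [LinearMap.comp_apply, LinearEquiv.coe_coe, LinearEquiv.apply_symm_apply, hx]⟩) (by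
      intro x
      rw [LinearMap.comp_apply, LinearEquiv.coe_coe, hd]
      constructor
      · rintro ⟨y, hy⟩
        refine ⟨θI.symm y, θN.injective ?_⟩
        rw [LinearMap.comp_apply, hθ, LinearEquiv.apply_symm_apply, hy]
      · rintro ⟨z, rfl⟩
        exact ⟨θI z, by rw [LinearMap.comp_apply, hθ]⟩)
  exact ⟨a, b, ha, hab, hb⟩

section fin

variable {T T0 : Y.Modules ⥤ X.Modules} (P : ∀ N : Y.Modules, Coh.HH X (T.obj N) 0 ≃ₗ[A] Coh.HH Y N 0)
  (hP : ∀ {N N' : Y.Modules} (φ : N ⟶ N') (x : Coh.HH X (T.obj N) 0),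
    P N' (EulerLES.mapA A (T.map φ) 0 x) = EulerLES.mapA A φ 0 (P N x))

include hP in
theorem exists_theta (e : T0 ≅ T) : ∃ θ : ∀ N : Y.Modules, Coh.HH X (T0.obj N) 0 ≃ₗ[A] Coh.HH Y N 0,
    ∀ {N N' : Y.Modules} (φ : N ⟶ N') (x : Coh.HH X (T0.obj N) 0),
      θ N' (EulerLES.mapA A (T0.map φ) 0 x) = EulerLES.mapA A φ 0 (θ N x) := by
  refine ⟨fun N => (EulerLES.equivA A (e.app N) 0).trans (P N), fun {N N'} φ x => ?_⟩
  rw [LinearEquiv.trans_apply, LinearEquiv.trans_apply, ← hP]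
  congr 1
  change (EulerLES.mapA A (e.hom.app N') 0) (EulerLES.mapA A (T0.map φ) 0 x) =
    EulerLES.mapA A (T.map φ) 0 ((EulerLES.mapA A (e.hom.app N) 0) x)
  rw [← LinearMap.comp_apply, ← LinearMap.comp_apply, ← EulerLES.mapA_comp, ← EulerLES.mapA_comp, e.hom.naturality]

end fin

include hf in
theorem exists_low [HasInjectiveResolutions Y.Modules] (M : Y.Modules)
    (h2 : Subsingleton (Coh.HH X ((Scheme.Modules.pushforward f).obj M) 2)) :
    ∃ (a : Coh.HH X ((Scheme.Modules.pushforward f).obj M) 1 →ₗ[A] Coh.HH Y M 1)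
      (b : Coh.HH Y M 1 →ₗ[A] Coh.HH X ((Coh.Rpush f 1).obj M) 0),
      Function.Injective a ∧ Function.Exact a b ∧ Function.Surjective b := by
  have hinj := Cohder.RDLES.enoughInjectives (C := Y.Modules)
  obtain ⟨I, m, hI, hm⟩ : ∃ (I : Y.Modules) (m : M ⟶ I), Injective I ∧ Mono m :=
    ⟨Injective.under M, Injective.ι M, inferInstance, inferInstance⟩
  obtain ⟨N, p, wmp, h3⟩ : ∃ (N : Y.Modules) (p : I ⟶ N) (wmp : m ≫ p = 0), (ShortComplex.mk m p wmp).ShortExact :=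
    ⟨cokernel m, cokernel.π m, cokernel.condition m,
      { exact := ShortComplex.exact_cokernel m, mono_f := hm, epi_g := inferInstanceAs (Epi (cokernel.π m)) }⟩
  have hI' : Injective (ShortComplex.mk m p wmp).X₂ := hI
  have hfl : TopCat.Sheaf.IsFlasque (X := Y.toTopCat) (Coh.toAb I) :=
    Ega3B.InjMod.isFlasque_of_injective I
  obtain ⟨θ, hθ⟩ := exists_theta (A := A) (fun N => pushLin f hf N) (fun φ x => pushLin_map f hf φ x)
    (Scheme.Modules.pushforward f).rightDerivedZeroIsoSelf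
  obtain ⟨δ, -, -, w, w', hS1, hS2⟩ := Sga4h.NcLerayAbs.exists_data (Scheme.Modules.pushforward f) h3
  have hflX : Subsingleton (Coh.HH X (((Scheme.Modules.pushforward f).rightDerived 0).obj I) 1) := by
    have h5 := LerayEuler.subsingleton_HH_of_isFlasque _ (LerayEuler.isFlasque_pushforward f I hfl) 0
    exact (EulerLES.equivA A ((Scheme.Modules.pushforward f).rightDerivedZeroIsoSelf.app I) 1).toEquiv.subsingleton
  have hflY : Subsingleton (Coh.HH Y I 1) := LerayEuler.subsingleton_HH_of_isFlasque _ hfl 0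
  have h2' : Subsingleton (Coh.HH X (((Scheme.Modules.pushforward f).rightDerived 0).obj M) 2) :=
    (EulerLES.equivA A ((Scheme.Modules.pushforward f).rightDerivedZeroIsoSelf.app M) 2).toEquiv.subsingleton
  obtain ⟨a, b, ha, hab, hb⟩ := exists_low_aux (A := A) _ _ w' hS1 _ _ _ hS2 m p wmp h3 (θ I) (θ N) (by
    intro x
    rw [← hθ, ← LinearMap.comp_apply, ← EulerLES.mapA_comp, kernel.lift_ι]) h2' hflX hflY
  refine ⟨a ∘ₗ (EulerLES.equivA A ((Scheme.Modules.pushforward f).rightDerivedZeroIsoSelf.app M) 1).symm.toLinearMap, b,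
    ha.comp (LinearEquiv.injective _), ?_, hb⟩
  intro x
  rw [hab x]
  constructor
  · rintro ⟨y, rfl⟩
    refine ⟨EulerLES.equivA A ((Scheme.Modules.pushforward f).rightDerivedZeroIsoSelf.app M) 1 y, ?_⟩
    rw [LinearMap.comp_apply, LinearEquiv.coe_coe, LinearEquiv.symm_apply_apply]
  · rintro ⟨y, rfl⟩
    exact ⟨_, rfl⟩

end K955.LerayLow
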