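import Groth.Agent.Resolve.K112.Bound
import Groth.Agent.Ega2.RelAmp
import Groth.Agent.SDiv.K470.BlowProj
import Groth.Agent.EGA2.K32.ProjIff
import Groth.Agent.RelProj.K823.QProj
import Groth.Agent.CohqB.AmpGeneric

/-!
# Normalized blow-ups are projective; finite families of Cousin data live on projective normal modifications (helper955)
-/

set_option autoImplicit false
universe u
open CategoryTheory CategoryTheory.Limits AlgebraicGeometry TopologicalSpace Opposite

namespace K955.ProjModif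

open Groth.Agent Groth.Agent.CurvesC Groth.Agent.CurvesC.ModDim Groth.Agent.CurvesC.Cousin
open Groth.Agent.Lipman.Defs Groth.Agent.Lipman.ZRD158 Groth.Agent.Resolve.K112.WM Groth.Agent.Resolve.K112.Dict
  Groth.Agent.Resolve.K112.Bound

/-- The composite of a finite morphism and the blowing up of an affine scheme is projective, and has an ample sheaf. -/
theorem exists_ample {A : Type u} [CommRing A] {P X : Scheme.{u}} {J : (Spec (CommRingCat.of A)).IdealSheafData}
    (b : P ⟶ Spec (CommRingCat.of A)) (hb : BlowUp.IsBlowUp b J) (hJ : BlowUp.IsFiniteTypeIdeal J) (ν : X ⟶ P)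
    [IsFinite ν] [IsProper b] : RelProj.IsProjective (ν ≫ b) ∧ ∃ L : X.Modules, CohB1.IsAmple L := by
  have hP : RelProj.IsProjective b := K470.BlowProj.isProjective hb hJ
  obtain ⟨_, _, L₀, hL₀⟩ := EGA2.K32.ProjIff.isQuasiProjective hP
  have hA0 : CohB1.IsAmple L₀ := Ega2.RelAmp.isRelAmple_iff_isAmple.1 hL₀
  have hA : CohB1.IsAmple ((Scheme.Modules.pullback ν).obj L₀) := CohqB.AmpCocycle.isAmple_pullback ν hA0
  have hqp : RelProj.IsQuasiProjective (ν ≫ b) :=
    ⟨inferInstance, inferInstance, _, (Ega2.RelAmp.isRelAmple_iff_isAmple (f := ν ≫ b)).2 hA⟩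
  exact ⟨K823.QProj.isProjective (ν ≫ b) hqp, _, hA⟩

/-- Every finite family of elements of `W(A)` lives on a projective normal modification. -/
theorem exists_modif (A : Type u) [CommRing A] [IsDomain A] [IsNoetherianRing A] [IsIntegrallyClosed A]
    (hN : CAlg.IsNagata A) (K : Type u) [Field K] [Algebra A K] [IsFractionRing A K] {ι : Type*} [Finite ι]
    (φ : ι → DA A K) :
    ∃ (X : Scheme.{u}) (f : X ⟶ Spec (CommRingCat.of A)) (_ : IsProper f) (_ : IsIntegral X)
      (_ : Pi1.IsNormalScheme X)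
      (_ : ∃ U : (Spec (CommRingCat.of A)).Opens, (U : Set (Spec (CommRingCat.of A))).Nonempty ∧ IsIso (f ∣_ U))
      (_ : RelProj.IsProjective f) (_ : ∃ L : X.Modules, CohB1.IsAmple L)
      (e : K ≃+* X.functionField) (_ : ∀ a, e (algebraMap A K a) = ValData.toK f a), ∀ i, LC e (φ i).1 := by
  classical
  obtain ⟨s, hs, hc⟩ := exists_isConst_of_finite (R := im A K) (fun i ↦ (φ i).1) (fun i ↦ (φ i).2)
  choose g hg using hc
  have : Finite s := hs.finite
  obtain ⟨d, hd⟩ := IsLocalization.exist_integer_multiples_of_finite (nonZeroDivisors A) (fun x : s ↦ (x : K))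
  choose a ha using hd
  have hd0 : algebraMap A K d ≠ 0 := IsFractionRing.to_map_ne_zero_of_mem_nonZeroDivisors d.2
  have ha' : ∀ x : s, algebraMap A K (a x) = algebraMap A K d * x := fun ψ => by
    rw [ha, Algebra.smul_def]
  obtain ⟨x₀, hx₀, hx₀0⟩ := hs.exists_ne_zero
  let I : Ideal A := Ideal.span (Set.range a)
  obtain ⟨P, b, hb⟩ := Groth.Agent.Flat2C.BlowExist.exists_isBlowUp (Curv2.idealSheaf A I)
  have hft : BlowUp.IsFiniteTypeIdeal (Curv2.idealSheaf A I) := by
    intro U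
    have : IsNoetherianRing Γ(Spec (CommRingCat.of A), U.1) := IsLocallyNoetherian.component_noetherian U
    exact IsNoetherian.noetherian _
  have hI : Curv2.idealSheaf A I ≠ ⊥ := by
    refine SolOfRat.idealSheaf_ne_bot fun h => ?_
    have h1 : a ⟨x₀, hx₀⟩ ∈ I := Ideal.subset_span ⟨_, rfl⟩
    rw [h, Ideal.mem_bot] at h1
    have h2 := ha' ⟨x₀, hx₀⟩
    rw [h1, map_zero] at h2
    exact mul_ne_zero hd0 hx₀0 h2.symm
  have hbm : Modif.IsModif b := Modif.IsModif.of_isBlowUp hI hft hb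
  obtain ⟨X, ν, hν, hνfin, hnorm⟩ := hbm.exists_normalization hN
  have hf := hν.comp hbm
  let f := ν ≫ b
  have := hf.proper
  have := hf.integral
  have := hbm.proper
  obtain ⟨hproj, hample⟩ := exists_ample b hb hft ν
  obtain ⟨e, he⟩ := exists_fieldEquiv f hf.exists_isIso K
  refine ⟨X, f, hf.proper, hf.integral, hnorm, hf.exists_isIso, hproj, hample, e, he, fun i x ↦ ?_⟩
  obtain ⟨_, ⟨l, rfl⟩, hs'⟩ := BlowUpCharts.exists_mem_chart hb.1 (S := Set.range a) rfl (ν x)
  obtain ⟨W0, hW0, hxW0⟩ := BlowUpCharts.mem_chart.1 hs'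
  obtain ⟨W, hW, hxW, hWW⟩ := exists_isAffineOpen_mem_and_subset (X := X) (U := ν ⁻¹ᵁ W0) hxW0
  have hη := Cousin.mem_of_nonempty X W x hxW
  have hrel : ∀ m, ∃ c : Γ(X, W), toSec f W (a m) = toSec f W (a l) * c := by
    intro m
    obtain ⟨c, hc⟩ := hW0.dvd (a m) (Ideal.subset_span ⟨m, rfl⟩)
    refine ⟨rs hWW ((ν.app W0).hom c), ?_⟩
    have h1 := congrArg (ν.app W0).hom hc
    rw [map_mul, ← BlowUpCharts.phi_comp, ← BlowUpCharts.phi_comp] at h1
    have h2 := congrArg (rs hWW) h1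
    rw [map_mul] at h2
    have h3 : ∀ z, rs hWW (BlowUpCharts.phi (ν ≫ b) (ν ⁻¹ᵁ W0) z) = toSec f W z := fun z =>
      toSec_res f hWW z
    rwa [h3, h3] at h2
  have hal : a l ≠ 0 := by
    intro h0
    have h1 := hW0.nzd
    rw [h0, map_zero] at h1
    have : Nonempty W0 := ⟨⟨_, hxW0⟩⟩
    have := hbm.integral
    have h2 : Nontrivial Γ(P, W0) := inferInstance
    exact zero_notMem_nonZeroDivisors h1
  have hl0 : (l : K) ≠ 0 := by
    intro h0
    have h1 := ha' l
    rw [h0, mul_zero, FaithfulSMul.algebraMap_eq_zero_iff] at h1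
    exact hal h1
  refine ⟨W, g i l, hxW, hW, fun V hV ↦ hg i V (hV.mem_ZR f he) l l.2 ⟨hl0, fun y hy ↦ ?_⟩⟩
  obtain ⟨c, hc⟩ := hrel ⟨y, hy⟩
  obtain ⟨hη', hV'⟩ := hV
  have h1 := congrArg (X.presheaf.germ W (genericPoint X) hη) hc
  rw [map_mul, ValData.germ_toSec, ValData.germ_toSec, ← he, ← he, ha', ha', map_mul, map_mul, mul_assoc] at h1
  have h2 := mul_left_cancel₀ ((map_ne_zero_iff _ e.injective).2 hd0) h1
  have h3 := hV' c
  have h4 : X.presheaf.germ W (genericPoint X) hη c = e (y / l) := by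
    have h5 : e (l : K) ≠ 0 := (map_ne_zero_iff _ e.injective).2 hl0
    rw [map_div₀, eq_div_iff h5, mul_comm]
    exact h2.symm
  rw [h4, apply_mem_pullV] at h3
  exact h3

/-- If `W(A)` has finite length, then it lives on a projective normal modification. -/
theorem exists_modif_all (A : Type u) [CommRing A] [IsDomain A] [IsNoetherianRing A] [IsIntegrallyClosed A]
    (hN : CAlg.IsNagata A) (K : Type u) [Field K] [Algebra A K] [IsFractionRing A K]
    (hW : IsFiniteLength A (WA A K)) :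
    ∃ (X : Scheme.{u}) (f : X ⟶ Spec (CommRingCat.of A)) (_ : IsProper f) (_ : IsIntegral X)
      (_ : Pi1.IsNormalScheme X)
      (_ : ∃ U : (Spec (CommRingCat.of A)).Opens, (U : Set (Spec (CommRingCat.of A))).Nonempty ∧ IsIso (f ∣_ U))
      (_ : RelProj.IsProjective f) (_ : ∃ L : X.Modules, CohB1.IsAmple L)
      (e : K ≃+* X.functionField) (_ : ∀ a, e (algebraMap A K a) = ValData.toK f a),
      ∀ φ ∈ DA A K, LC e φ := by
  obtain ⟨hWN, -⟩ := isFiniteLength_iff_isNoetherian_isArtinian.1 hW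
  obtain ⟨r, w, hw⟩ := Submodule.fg_iff_exists_fin_generating_family.mp (hWN.noetherian ⊤)
  choose φ hφ using fun i ↦ Submodule.Quotient.mk_surjective ((TA A K).comap (DA A K).subtype) (w i)
  obtain ⟨X, f, hf, hint, hnorm, hiso, hproj, hample, e, he, hLC⟩ := exists_modif A hN K φ
  refine ⟨X, f, hf, hint, hnorm, hiso, hproj, hample, e, he, fun ψ hψ ↦ ?_⟩
  have h1 : (Submodule.Quotient.mk ⟨ψ, hψ⟩ : WA A K) ∈ Submodule.span A (Set.range w) := by
    rw [hw]; trivial
  obtain ⟨c, hc⟩ := (Submodule.mem_span_range_iff_exists_fun A).1 h1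
  have h2 : (⟨ψ, hψ⟩ : DA A K) - ∑ i, c i • φ i ∈ (TA A K).comap (DA A K).subtype := by
    rw [← Submodule.Quotient.eq, ← hc]
    have h3 := map_sum ((TA A K).comap (DA A K).subtype).mkQ (fun i ↦ c i • φ i) Finset.univ
    simp only [map_smul, Submodule.mkQ_apply] at h3
    rw [h3]
    simp only [hφ]
  have h4 : LC e (ψ - (∑ i, c i • φ i : DA A K).1) := by
    obtain ⟨g, hg⟩ : IsTriv (im A K) (ψ - (∑ i, c i • φ i : DA A K).1) := h2
    intro x
    obtain ⟨W, hW, hxW, -⟩ := exists_isAffineOpen_mem_and_subset (X := X) (U := ⊤) (x := x) trivial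
    exact ⟨W, g, hxW, hW, fun V hV ↦ hg V (hV.mem_ZR f he)⟩
  have h5 : (∑ i, c i • φ i : DA A K).1 ∈ DX f e he := by
    rw [Submodule.coe_sum]
    exact Submodule.sum_mem _ fun i _ ↦ Submodule.smul_mem _ _ (hLC i)
  have h6 : (ψ - (∑ i, c i • φ i : DA A K).1) + (∑ i, c i • φ i : DA A K).1 ∈ DX f e he :=
    Submodule.add_mem _ h4 h5
  rwa [sub_add_cancel] at h6

end K955.ProjModif
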