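import Groth.Agent.Resolve.K955.LerayLow
import Groth.Agent.Resolve.K955.BadPts
import Groth.Agent.VarietyA.Glue2
import Groth.Agent.Ega2.GlobGenCrit
import Groth.Agent.Ega3B.RpushAff
import Groth.Agent.Resolve.K377.DimIneq
import Groth.Agent.PosLin.K931.UnitInv
import Groth.Agent.CurvesC.ModVanish

/-!
# `R^1 g_* O` between modifications of a normal two-dimensional local ring (helper955)

* `isGloballyGenerated_of_bad`, `subsingleton_stalk` : quasi-coherent modules without sections over an open set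
  whose complement consists of finitely many closed points.
* `exists_seq` : the exact sequence `0 → H^1(X, O) → H^1(X', O) → H^0(X, R^1 g_* O) → 0`, `A`-linearly.
-/

set_option autoImplicit false
universe u
open CategoryTheory CategoryTheory.Limits AlgebraicGeometry Opposite TopologicalSpace

namespace K955.RpushMod

open Groth.Agent K955.BadPts

section bad

variable {X : Scheme.{u}} (M : X.Modules) (L : X.Opens) (hL : ∀ V ≤ L, Subsingleton Γ(M, V))

include hL in
theorem exists_ext (x : X) (hx : IsClosed ({x} : Set X)) (W : X.Opens) (hxW : x ∈ W)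
    (hW : ∀ w ∈ W, w ≠ x → w ∈ L) (s : Γ(M, W)) :
    ∃ t : Γ(M, ⊤), Fdesc.LocGen.res M (le_top : W ≤ ⊤) t = s := by
  let V : X.Opens := ⟨{x}ᶜ, hx.isOpen_compl⟩
  have hWV : W ⊔ V = ⊤ := by
    ext w
    simp only [Opens.coe_sup, Opens.coe_top, Set.mem_univ, iff_true, Set.mem_union]
    by_cases hw : w = x
    · left; rw [hw]; exact hxW
    · right; exact hw
  have := hL (W ⊓ V) fun w hw => hW w hw.1 hw.2
  obtain ⟨t, ht, -⟩ := VarietyA.Glue2.exists_msec_two M W V hWV s 0 (Subsingleton.elim _ _)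
  exact ⟨t, ht⟩

include hL in
theorem subsingleton_stalk (x : X) (hx : x ∈ L) : Subsingleton (M.presheaf.stalk x) := by
  refine ⟨fun a b => ?_⟩
  have key : ∀ a : M.presheaf.stalk x, a = 0 := fun a => by
    obtain ⟨V, hV, s, rfl⟩ := M.presheaf.exists_germ_eq a
    have := hL (V ⊓ L) inf_le_right
    have h1 : M.presheaf.map (homOfLE (inf_le_left : V ⊓ L ≤ V)).op s = 0 := Subsingleton.elim _ _
    have h2 := TopCat.Presheaf.germ_res_apply M.presheaf (homOfLE (inf_le_left : V ⊓ L ≤ V)) x ⟨hV, hx⟩ s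
    rw [← h2, h1, map_zero]
  rw [key a, key b]

include hL in
theorem isGloballyGenerated_of_bad (hM : Coh.IsQCoh M) (hfin : ((L : Set X)ᶜ).Finite)
    (hcl : ∀ y ∈ (L : Set X)ᶜ, IsClosed ({y} : Set X)) : Curv2.IsGloballyGenerated M := by
  have hex : ∀ x : X, ∃ U : X.Opens, IsAffineOpen U ∧ x ∈ U ∧ ∀ w ∈ U, w ≠ x → w ∈ L := by
    intro x
    have hc : IsClosed ((L : Set X)ᶜ \ {x}) := by
      have : (L : Set X)ᶜ \ {x} = ⋃ y ∈ ((L : Set X)ᶜ \ {x}), {y} := (Set.biUnion_of_singleton _).symm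
      rw [this]
      exact (hfin.subset Set.sdiff_subset).isClosed_biUnion fun y hy => hcl y hy.1
    obtain ⟨U, hU, hxU, hUV⟩ := exists_isAffineOpen_mem_and_subset (X := X) (x := x)
      (U := ⟨((L : Set X)ᶜ \ {x})ᶜ, hc.isOpen_compl⟩) (fun h => h.2 rfl)
    refine ⟨U, hU, hxU, fun w hw hne => ?_⟩
    by_contra hwL
    exact hUV hw ⟨hwL, hne⟩
  choose U hU hxU hUL using hex
  refine Ega2.GlobGenCrit.isGloballyGenerated_of_span hM U hU
    (top_le_iff.1 fun x _ => Opens.mem_iSup.2 ⟨x, hxU x⟩) fun x => ?_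
  rw [eq_top_iff]
  intro s _
  refine Submodule.subset_span ?_
  by_cases hx : x ∈ L
  · have := hL (U x) fun w hw => by
      by_cases h : w = x
      · rw [h]; exact hx
      · exact hUL x w hw h
    exact ⟨0, Subsingleton.elim _ _⟩
  · obtain ⟨t, ht⟩ := exists_ext M L hL x (hcl x hx) (U x) (hxU x) (hUL x) s
    exact ⟨t, ht⟩

end bad

/-- The higher direct images vanish over the locus where `g` is an isomorphism. -/
theorem subsingleton_rpush {X Y : Scheme.{u}} (g : X ⟶ Y) [QuasiCompact g] [QuasiSeparated g]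
    [HasInjectiveResolutions X.Modules] (F : X.Modules) (hF : Coh.IsQCoh F) (n : ℕ) (hn : 0 < n)
    (V : Y.Opens) (hV : V ≤ isoLocus g) : Subsingleton Γ((Coh.Rpush g n).obj F, V) := by
  refine ⟨fun s t => ?_⟩
  rw [← sub_eq_zero]
  refine Ega3B.RpushAff.eq_zero_of_locally V _ fun y hy => ?_
  obtain ⟨V₀, hyV₀, hV₀⟩ := (mem_isoLocus g y).1 (hV hy)
  obtain ⟨D, hD, hyD, hDV⟩ := exists_isAffineOpen_mem_and_subset (X := Y) (x := y) (U := V ⊓ V₀) ⟨hy, hyV₀⟩
  refine ⟨D, hDV.trans inf_le_left, hyD, ?_⟩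
  have hiso : IsIso (g ∣_ D) := CurvesC.ModDim.isIso_morphismRestrict_of_le g (hDV.trans inf_le_right)
  have : IsAffine D.toScheme := hD
  have haff : IsAffineOpen (g ⁻¹ᵁ D) := .of_isIso (g ∣_ D)
  have := (Ega3B.RpushAff.subsingleton_iff g F hF hD n).2
    (Ega3B.RpushAff.subsingleton_HHon F hF haff n hn)
  exact Subsingleton.elim _ _

section modif

variable {A : Type u} [CommRing A] {X X' : Scheme.{u}}

/-- A morphism between schemes which are birational to the base is birational. -/
theorem exists_isIso {S X X' : Scheme.{u}} [IrreducibleSpace S] (f : X ⟶ S) (f' : X' ⟶ S) (g : X' ⟶ X)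
    (hg : g ≫ f = f') (hX : ∃ U : S.Opens, (U : Set S).Nonempty ∧ IsIso (f ∣_ U))
    (hX' : ∃ U : S.Opens, (U : Set S).Nonempty ∧ IsIso (f' ∣_ U)) :
    ∃ U : X.Opens, (U : Set X).Nonempty ∧ IsIso (g ∣_ U) := by
  subst hg
  obtain ⟨U, hU, h⟩ := hX
  obtain ⟨U', hU', h'⟩ := hX'
  have h1 : IsIso (f ∣_ (U ⊓ U')) := CurvesC.ModDim.isIso_morphismRestrict_of_le f inf_le_left
  have h2 : IsIso ((g ≫ f) ∣_ (U ⊓ U')) := CurvesC.ModDim.isIso_morphismRestrict_of_le (g ≫ f) inf_le_right
  have hne : ((U ⊓ U' : S.Opens) : Set S).Nonempty := by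
    obtain ⟨x, hx⟩ := hU
    exact nonempty_preirreducible_inter U.isOpen U'.isOpen ⟨x, hx⟩ hU'
  refine ⟨f ⁻¹ᵁ (U ⊓ U'), CurvesC.ModDim.nonempty_preimage f _ hne, ?_⟩
  rw [morphismRestrict_comp] at h2
  have h3 : IsIso ((g ∣_ (f ⁻¹ᵁ (U ⊓ U'))) ≫ (f ∣_ (U ⊓ U'))) := h2
  exact IsIso.of_isIso_comp_right _ (f ∣_ (U ⊓ U'))

theorem isNoetherian_of {S X : Scheme.{u}} [IsNoetherian S] (f : X ⟶ S) [LocallyOfFiniteType f] [QuasiCompact f] :
    IsNoetherian X := by
  have : IsLocallyNoetherian X := LocallyOfFiniteType.isLocallyNoetherian f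
  have : CompactSpace X := QuasiCompact.compactSpace_of_compactSpace f
  exact {}

theorem generic {X Y : Scheme.{u}} [IsIntegral X] [IsIntegral Y] (f : X ⟶ Y) (U : Y.Opens)
    (hU : (U : Set Y).Nonempty) (hf : IsIso (f ∣_ U)) : f (genericPoint X) = genericPoint Y := by
  have hsub : (U : Set Y) ⊆ Set.range f := by
    intro y hy
    obtain ⟨x, hx⟩ := (f ∣_ U).surjective ⟨y, hy⟩
    refine ⟨x.1, ?_⟩
    rw [← morphismRestrict_base_coe, hx]
  have hdense : DenseRange f := by
    have : Dense (U : Set Y) := U.isOpen.dense hU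
    exact this.mono hsub
  have hgen : IsGenericPoint (f (genericPoint X)) Set.univ := by
    have h1 : IsGenericPoint (f (genericPoint X)) (closure (f '' Set.univ)) :=
      (genericPoint_spec X).image f.continuous
    rwa [Set.image_univ, hdense.closure_range] at h1
  exact hgen.eq (genericPoint_spec Y)

/-- The local rings of a modification are not of larger dimension than those of the base. -/
theorem ringKrullDim_stalk_le {X Y : Scheme.{u}} [IsIntegral X] [IsIntegral Y] [IsLocallyNoetherian Y] (f : X ⟶ Y)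
    [LocallyOfFiniteType f] (U : Y.Opens) (hU : (U : Set Y).Nonempty) (hf : IsIso (f ∣_ U)) (x : X) :
    ringKrullDim (X.presheaf.stalk x) ≤ ringKrullDim (Y.presheaf.stalk (f x)) := by
  refine K377.DimIneq.main f ?_ x
  intro η hη
  have hηg : η = genericPoint X := by
    have h1 : closure {η} ∈ irreducibleComponents X := hη
    rw [irreducibleComponents_eq_singleton, Set.mem_singleton_iff] at h1
    have h2 : genericPoint X ∈ closure ({η} : Set X) := by rw [h1]; trivial
    exact ((specializes_iff_mem_closure.mpr h2).antisymm (genericPoint_specializes η)).eq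
  subst hηg
  have hgU : f (genericPoint X) ∈ U := by
    rw [generic f U hU hf]
    exact ((genericPoint_spec Y).mem_open_set_iff U.isOpen).2 (by simpa using hU)
  have := Dix.ContractSurf.isIso_stalkMap f U (genericPoint X) hgU
  refine ⟨RingHom.injective _, fun c => ?_⟩
  obtain ⟨b, rfl⟩ := Ideal.Quotient.mk_surjective c
  obtain ⟨a, rfl⟩ := (ConcreteCategory.bijective_of_isIso (f.stalkMap (genericPoint X))).2 b
  exact ⟨(Y.residue _).hom a, ConcreteCategory.congr_hom (Scheme.residue_residueFieldMap f (genericPoint X)) a⟩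

theorem ringKrullDim_stalk_spec (A : Type u) [CommRing A] (p : Spec (CommRingCat.of A)) :
    ringKrullDim ((Spec (CommRingCat.of A)).presheaf.stalk p) ≤ ringKrullDim A := by
  have hp : p.asIdeal.IsPrime := p.isPrime
  have h : ringKrullDim ((Spec (CommRingCat.of A)).presheaf.stalk p) = p.asIdeal.height := by
    rw [← IsLocalization.AtPrime.ringKrullDim_eq_height p.asIdeal (Localization.AtPrime p.asIdeal)]
    exact ringKrullDim_eq_of_ringEquiv (Spec.stalkIso (CommRingCat.of A) p).commRingCatIsoToRingEquiv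
  rw [h]
  exact Ideal.height_le_ringKrullDim_of_ne_top hp.ne_top

end modif

end K955.RpushMod
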