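import Groth.Agent.Lipman.QCDict679
import Groth.Agent.Lipman.ZRD158
import Groth.Agent.Lipman.BoundV1

/-!
# Extension of Cousin data from a localization, and triviality (helper955)

* `exists_mul_mem` : integrality over a localization.
* `exists_extension` : Cousin data over a local ring extend, up to a unit, to the ring.
* `exists_isTriv_mul` : Cousin data which are trivial over the local ring become trivial over the ring after
  multiplication by a unit of the local ring.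
* `isTriv_of_two_cover` : if `ZR A` is covered by `ZR R` and `ZR R₂` and all Cousin data over `A` are trivial over a local
  ring `B` of `R` of dimension at most two whose closed point is not in the second open, then all Cousin data over
  `B` are trivial.
-/

set_option autoImplicit false
universe u

open IsLocalRing

namespace K955.ZRGlue

open Groth.Agent.Lipman Groth.Agent.Lipman.Defs Groth.Agent.Lipman.ZRD158 Groth.Agent.Lipman.BoundV1

variable {K : Type u} [Field K]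

/-- Elements which are integral after inverting a multiplicative set. -/
theorem exists_mul_mem (C : Subring K) (M : Submonoid C) (hM : ∀ m ∈ M, (m : K) ≠ 0) {z : K}
    (hz : ∀ V : ValuationSubring K, C ≤ V.toSubring → (∀ m ∈ M, ((m : C) : K)⁻¹ ∈ V) → z ∈ V) :
    ∃ m ∈ M, ∀ V : ValuationSubring K, C ≤ V.toSubring → (m : K) * z ∈ V := by
  have hu : ∀ m : M, IsUnit (C.subtype m) := fun m => (hM m m.2).isUnit
  let B := Localization M
  let φ : B →+* K := IsLocalization.lift (M := M) (g := C.subtype) hu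
  have hφ : ∀ a : C, φ (algebraMap C B a) = (a : K) := fun a ↦ IsLocalization.lift_eq hu a
  have h1 : IsIntegral φ.range z := by
    rw [QC.isIntegral_iff_forall_mem]
    intro V hV
    refine hz V (fun a ha ↦ hV ⟨algebraMap C B ⟨a, ha⟩, hφ _⟩) fun m hm ↦
      hV ⟨IsLocalization.mk' B 1 ⟨m, hm⟩, ?_⟩
    have h := congrArg φ (IsLocalization.mk'_spec B (1 : C) (⟨m, hm⟩ : M))
    rw [map_mul, hφ, hφ] at h
    have h' : φ (IsLocalization.mk' B 1 ⟨m, hm⟩) * (m : K) = 1 := by simpa using h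
    exact eq_inv_of_mul_eq_one_left h'
  let _ : Algebra B K := φ.toAlgebra
  let _ : Algebra B φ.range := φ.rangeRestrict.toAlgebra
  have : IsScalarTower B φ.range K := IsScalarTower.of_algebraMap_eq fun _ ↦ rfl
  have : IsScalarTower C B K := IsScalarTower.of_algebraMap_eq fun a ↦ (hφ a).symm
  have : Algebra.IsIntegral B φ.range :=
    ⟨fun y ↦ by obtain ⟨b, rfl⟩ := φ.rangeRestrict_surjective y; exact isIntegral_algebraMap⟩
  have h2 : IsIntegral B z := isIntegral_trans z h1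
  obtain ⟨m, hm⟩ := IsIntegral.exists_multiple_integral_of_isLocalization M z h2
  refine ⟨m, m.2, (QC.isIntegral_iff_forall_mem C _).1 ?_⟩
  have h3 : m • z = ((m : C) : K) * z := rfl
  rw [← h3]
  exact hm

/-- `t ∈ R` is a unit of `B`. -/
def Un (R B : Subring K) (t : K) : Prop := t ∈ R ∧ t ≠ 0 ∧ t⁻¹ ∈ B

theorem Un.one (R B : Subring K) : Un R B 1 := ⟨R.one_mem, one_ne_zero, by rw [inv_one]; exact B.one_mem⟩

theorem Un.mul {R B : Subring K} {s t : K} (hs : Un R B s) (ht : Un R B t) : Un R B (s * t) :=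
  ⟨R.mul_mem hs.1 ht.1, mul_ne_zero hs.2.1 ht.2.1, by rw [mul_inv]; exact B.mul_mem hs.2.2 ht.2.2⟩

/-- A common multiplier for finitely many conditions. -/
theorem exists_un {R B : Subring K} {ι : Type*} (T : Set ι) (hT : T.Finite) (P : ι → K → Prop)
    (hP : ∀ i ∈ T, ∃ t, Un R B t ∧ P i t) (hmul : ∀ i t t', P i t → t' ∈ R → P i (t' * t)) :
    ∃ t, Un R B t ∧ ∀ i ∈ T, P i t := by
  induction T, hT using Set.Finite.induction_on with
  | empty => exact ⟨1, Un.one R B, by simp⟩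
  | @insert i T _ _ ih =>
    obtain ⟨t, ht, h1⟩ := ih (fun j hj ↦ hP j (Set.mem_insert_of_mem _ hj))
    obtain ⟨t', ht', h2⟩ := hP i (Set.mem_insert _ _)
    refine ⟨t * t', ht.mul ht', ?_⟩
    rintro j (rfl | hj)
    · exact hmul _ _ _ h2 ht.1
    · rw [mul_comm]
      exact hmul _ _ _ (h1 j hj) ht'.1

/-- Integrality over a local ring of a chart. -/
theorem exists_un_mul_mem {R B : Subring K}
    (hfrac : ∀ z ∈ B, ∃ t ∈ R, t ≠ 0 ∧ t⁻¹ ∈ B ∧ z * t ∈ R) (s : Set K) {z : K}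
    (hz : ∀ V ∈ ZR B, (∀ y ∈ s, y ∈ V) → z ∈ V) :
    ∃ t, Un R B t ∧ ∀ V ∈ ZR R, (∀ y ∈ s, y ∈ V) → t * z ∈ V := by
  let C : Subring K := Subring.closure ((R : Set K) ∪ s)
  have hRC : R ≤ C := fun x hx ↦ Subring.subset_closure (Or.inl hx)
  have hC : ∀ V : ValuationSubring K, C ≤ V.toSubring ↔ V ∈ ZR R ∧ ∀ y ∈ s, y ∈ V := by
    intro V
    rw [Subring.closure_le, Set.union_subset_iff]
    rfl
  let M : Submonoid C :=
    { carrier := {m | Un R B (m : K)}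
      one_mem' := Un.one R B
      mul_mem' := fun h h' ↦ h.mul h' }
  obtain ⟨m, hm, h⟩ := exists_mul_mem C M (fun m hm ↦ hm.2.1) (z := z) (by
    intro V hV hinv
    obtain ⟨hVR, hVs⟩ := (hC V).1 hV
    refine hz V (fun b hb ↦ ?_) hVs
    obtain ⟨t, ht, ht0, htB, htR⟩ := hfrac b hb
    have h1 : (t : K)⁻¹ ∈ V := hinv ⟨t, hRC ht⟩ ⟨ht, ht0, htB⟩
    have h2 : b * t * t⁻¹ = b := mul_inv_cancel_right₀ ht0 b
    change b ∈ V
    rw [← h2]
    exact V.mul_mem _ _ (hVR htR) h1)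
  exact ⟨m, hm, fun V hV hs ↦ h V ((hC V).2 ⟨hV, hs⟩)⟩

/-- Cousin data over a local ring extend, up to a unit. -/
theorem exists_extension {R B : Subring K} (hRB : R ≤ B)
    (hfrac : ∀ z ∈ B, ∃ t ∈ R, t ≠ 0 ∧ t⁻¹ ∈ B ∧ z * t ∈ R) {φ : ValuationSubring K → K} (hφ : φ ∈ D B) :
    ∃ (t : K) (φ' : ValuationSubring K → K), Un R B t ∧ φ' ∈ D R ∧ ∀ V ∈ ZR B, φ' V - t * φ V ∈ V := by
  obtain ⟨s, hs, f, hf⟩ := hφ
  obtain ⟨t, ht, h⟩ := exists_un (R := R) (B := B) (s ×ˢ s) (hs.finite.prod hs.finite)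
    (fun p t ↦ ∀ V ∈ ZR R, Chart s p.1 V → Chart s p.2 V → t * (f p.1 - f p.2) ∈ V) (by
      rintro ⟨x, x'⟩ ⟨hx, hx'⟩
      change x ∈ s at hx
      change x' ∈ s at hx'
      by_cases h0 : x = 0 ∨ x' = 0
      · refine ⟨1, Un.one R B, fun V _ hc hc' ↦ ?_⟩
        rcases h0 with h0 | h0
        · exact absurd h0 hc.1
        · exact absurd h0 hc'.1
      rw [not_or] at h0
      obtain ⟨t, ht, h⟩ := exists_un_mul_mem hfrac ((fun y ↦ y / x) '' s ∪ (fun y ↦ y / x') '' s)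
        (z := f x - f x') (by
          intro V hV h1
          have hc : Chart s x V := ⟨h0.1, fun y hy ↦ h1 _ (Or.inl ⟨y, hy, rfl⟩)⟩
          have hc' : Chart s x' V := ⟨h0.2, fun y hy ↦ h1 _ (Or.inr ⟨y, hy, rfl⟩)⟩
          have h2 := hf V hV x hx hc
          have h3 := hf V hV x' hx' hc'
          have h4 : f x - f x' = (φ V - f x') - (φ V - f x) := by ring
          rw [h4]
          exact V.sub_mem h3 h2)
      refine ⟨t, ht, fun V hV hc hc' ↦ h V hV ?_⟩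
      rintro _ (⟨y, hy, rfl⟩ | ⟨y, hy, rfl⟩)
      · exact hc.2 y hy
      · exact hc'.2 y hy)
    (fun p t t' h ht' V hV hc hc' ↦ by
      rw [mul_assoc]
      exact V.mul_mem _ _ (hV ht') (h V hV hc hc'))
  choose x hx hc using fun V : ValuationSubring K ↦ exists_chart hs V
  refine ⟨t, fun V ↦ t * f (x V), ht, ⟨s, hs, fun y ↦ t * f y, fun V hV y hy hcy ↦ ?_⟩, fun V hV ↦ ?_⟩
  · have h1 := h (x V, y) ⟨hx V, hy⟩ V hV (hc V) hcy
    rw [mul_sub] at h1
    exact h1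
  · have h1 := hf V hV (x V) (hx V) (hc V)
    have h2 : t * f (x V) - t * φ V = - (t * (φ V - f (x V))) := by ring
    rw [h2]
    exact V.neg_mem _ (V.mul_mem _ _ (hV (hRB ht.1)) h1)

/-- Triviality spreads out. -/
theorem exists_isTriv_mul {R B : Subring K} (hRB : R ≤ B)
    (hfrac : ∀ z ∈ B, ∃ t ∈ R, t ≠ 0 ∧ t⁻¹ ∈ B ∧ z * t ∈ R) {φ : ValuationSubring K → K} (hφ : φ ∈ D R)
    (h : IsTriv B φ) : ∃ t, Un R B t ∧ IsTriv R (fun V ↦ t * φ V) := by
  obtain ⟨s, hs, f, hf⟩ := hφ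
  obtain ⟨g, hg⟩ := h
  obtain ⟨t, ht, h⟩ := exists_un (R := R) (B := B) s hs.finite
    (fun x t ↦ ∀ V ∈ ZR R, Chart s x V → t * (f x - g) ∈ V) (by
      intro x hx
      by_cases h0 : x = 0
      · exact ⟨1, Un.one R B, fun V _ hc ↦ absurd h0 hc.1⟩
      obtain ⟨t, ht, h⟩ := exists_un_mul_mem hfrac ((fun y ↦ y / x) '' s)
        (z := f x - g) (by
          intro V hV h1
          have hc : Chart s x V := ⟨h0, fun y hy ↦ h1 _ ⟨y, hy, rfl⟩⟩
          have h2 := hf V (ZR_anti hRB hV) x hx hc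
          have h3 := hg V hV
          have h4 : f x - g = (φ V - g) - (φ V - f x) := by ring
          rw [h4]
          exact V.sub_mem h3 h2)
      refine ⟨t, ht, fun V hV hc ↦ h V hV ?_⟩
      rintro _ ⟨y, hy, rfl⟩
      exact hc.2 y hy)
    (fun p t t' h ht' V hV hc ↦ by
      rw [mul_assoc]
      exact V.mul_mem _ _ (hV ht') (h V hV hc))
  refine ⟨t, ht, t * g, fun V hV ↦ ?_⟩
  obtain ⟨x, hx, hc⟩ := exists_chart hs V
  have h1 := hf V hV x hx hc
  have h2 := h x hx V hV hc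
  have h3 : t * φ V - t * g = t * (φ V - f x) + t * (f x - g) := by ring
  simp only [h3]
  exact V.add_mem _ _ (V.mul_mem _ _ (hV ht.1) h1) h2

theorem mem_D_of_le {R B : Subring K} (hRB : R ≤ B) {φ : ValuationSubring K → K} (hφ : φ ∈ D R) : φ ∈ D B := by
  obtain ⟨s, hs, hc⟩ := hφ
  exact ⟨s, hs, hc.mono hRB⟩

theorem mul_mem_D {R : Subring K} {φ : ValuationSubring K → K} (hφ : φ ∈ D R) {a : K} (ha : a ∈ R) :
    (fun V ↦ a * φ V) ∈ D R :=
  smul_mem_D (fun _ hV ↦ hV ha) hφ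

/-- The main gluing argument. -/
theorem isTriv_of_two_cover {A R R₂ R₁₂ B : Subring K} (hRB : R ≤ B) (hR₁₂ : R ≤ R₁₂)
    (hfrac : ∀ z ∈ B, ∃ t ∈ R, t ≠ 0 ∧ t⁻¹ ∈ B ∧ z * t ∈ R)
    [IsFractionRing B K] [IsNoetherianRing B] [IsIntegrallyClosed B] [IsLocalRing B] (hd : ringKrullDim B ≤ 2)
    (S₁ S₂ : Set K) (hS₁ : S₁.Finite) (hS₂ : S₂.Finite)
    (h₁ : ∀ V ∈ ZR A, (∀ s ∈ S₁, s ∈ V) ↔ V ∈ ZR R) (h₂ : ∀ V ∈ ZR A, (∀ s ∈ S₂, s ∈ V) ↔ V ∈ ZR R₂)
    (hcov : ∀ V ∈ ZR A, V ∈ ZR R ∨ V ∈ ZR R₂) (h₁₂ : ∀ V ∈ ZR R, V ∈ ZR R₂ → V ∈ ZR R₁₂)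
    {ι : Type*} [Finite ι] (a : ι → K) (haR : ∀ i, a i ∈ R) (haB : ∀ i, a i ≠ 0 → (a i)⁻¹ ∉ B)
    (hacov : ∀ V ∈ ZR R₁₂, ∃ i, a i ≠ 0 ∧ (a i)⁻¹ ∈ V)
    (hA : ∀ ψ ∈ D A, IsTriv B ψ) {φ : ValuationSubring K → K} (hφ : φ ∈ D B) : IsTriv B φ := by
  classical
  obtain ⟨t₀, φ', ht₀, hφ', hφφ'⟩ := exists_extension hRB hfrac hφ
  obtain ⟨n, hn⟩ := exists_pow_triv hd (mem_D_of_le hRB hφ')
  have h3 : ∀ i, ∃ t, Un R B t ∧ IsTriv R (fun V ↦ t * (a i ^ n * φ' V)) := by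
    intro i
    refine exists_isTriv_mul hRB hfrac (mul_mem_D hφ' (R.pow_mem (haR i) n)) ?_
    have hm : (⟨a i, hRB (haR i)⟩ : B) ∈ maximalIdeal B := by
      rw [mem_maximalIdeal, mem_nonunits_iff]
      intro hu
      obtain ⟨u, hu⟩ := hu
      have h4 : (a i) * (((u⁻¹ : Bˣ) : B) : K) = 1 := by
        have h5 := congrArg (Subtype.val) (Units.mul_inv u)
        rw [hu] at h5
        exact h5
      have h6 : a i ≠ 0 := left_ne_zero_of_mul_eq_one h4
      refine haB i h6 ?_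
      rw [← eq_inv_of_mul_eq_one_right h4]
      exact ((u⁻¹ : Bˣ) : B).2
    exact hn _ (Ideal.pow_mem_pow hm n)
  obtain ⟨t, ht, h4⟩ := exists_un (R := R) (B := B) (Set.univ : Set ι) Set.finite_univ
    (fun i t ↦ IsTriv R (fun V ↦ t * (a i ^ n * φ' V))) (fun i _ ↦ h3 i)
    (fun i t t' ⟨g, hg⟩ ht' ↦ ⟨t' * g, fun V hV ↦ by
      have h5 : t' * t * (a i ^ n * φ' V) - t' * g = t' * (t * (a i ^ n * φ' V) - g) := by ring
      simp only [h5]
      exact V.mul_mem _ _ (hV ht') (hg V hV)⟩)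
  choose! g hg using h4
  obtain ⟨h, hh⟩ := QC.isTriv_of_basic_cover R₁₂ a (fun i ↦ hR₁₂ (haR i)) hacov (fun V ↦ t * φ' V)
    (fun i ↦ (a i)⁻¹ ^ n * g i) (fun i hi V hV hinv ↦ by
      have h5 : t * φ' V - (a i)⁻¹ ^ n * g i = (a i)⁻¹ ^ n * (t * (a i ^ n * φ' V) - g i) := by
        rw [inv_pow]
        field_simp
      simp only [h5]
      exact V.mul_mem _ _ (pow_mem hinv n) (hg i trivial V (ZR_anti hR₁₂ hV)))
  let ψ : ValuationSubring K → K := fun V ↦ if V ∈ ZR R then t * φ' V - h else 0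
  have hψ : ψ ∈ D A := by
    refine QC.mem_D_of_locally_const A ψ fun V hV ↦ ?_
    rcases hcov V hV with hVR | hVR
    · obtain ⟨S, f, hS, hSV, hf⟩ := QC.locally_const_of_mem_D hφ' V
      refine ⟨S ∪ S₁, t * f - h, hS.union hS₁, ?_, fun W hW hWS ↦ ?_⟩
      · rintro s (hs | hs)
        · exact hSV s hs
        · exact (h₁ V hV).2 hVR s hs
      · have hWR : W ∈ ZR R := (h₁ W hW).1 fun s hs ↦ hWS s (Or.inr hs)
        have h5 : ψ W = t * φ' W - h := if_pos hWR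
        have h6 : t * φ' W - h - (t * f - h) = t * (φ' W - f) := by ring
        rw [h5, h6]
        exact W.mul_mem _ _ (hWR ht.1) (hf W hWR fun s hs ↦ hWS s (Or.inl hs))
    · refine ⟨S₂, 0, hS₂, (h₂ V hV).2 hVR, fun W hW hWS ↦ ?_⟩
      have hWR₂ : W ∈ ZR R₂ := (h₂ W hW).1 hWS
      rw [sub_zero]
      by_cases hWR : W ∈ ZR R
      · have h5 : ψ W = t * φ' W - h := if_pos hWR
        rw [h5]
        exact hh W (h₁₂ W hWR hWR₂)
      · have h5 : ψ W = 0 := if_neg hWR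
        rw [h5]
        exact W.zero_mem
  obtain ⟨g', hg'⟩ := hA ψ hψ
  refine ⟨(t * t₀)⁻¹ * (h + g'), fun V hV ↦ ?_⟩
  have h5 : ψ V = t * φ' V - h := if_pos (ZR_anti hRB hV)
  have h6 := hg' V hV
  rw [h5] at h6
  have h7 := V.mul_mem _ _ (hV (hRB ht.1)) (hφφ' V hV)
  have ht0 := (ht.mul ht₀).2.1
  have h8 : φ V - (t * t₀)⁻¹ * (h + g') = (t * t₀)⁻¹ * ((t * φ' V - h - g') - t * (φ' V - t₀ * φ V)) := by
    have h9 : (t * φ' V - h - g') - t * (φ' V - t₀ * φ V) = (t * t₀) * φ V - (h + g') := by ring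
    rw [h9, mul_sub, inv_mul_cancel_left₀ ht0]
  rw [h8]
  exact V.mul_mem _ _ (hV (ht.mul ht₀).2.2) (V.sub_mem h6 h7)

end K955.ZRGlue
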