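import Groth.Agent.Resolve.K112.Dict
import Groth.Agent.Resolve.K955.ZRGlue
import Groth.Agent.Lipman.NagataIn
import Groth.Agent.CurvesC.Sol

/-!
# Cousin data over the local rings of a modification (helper955)

`X` integral, proper over `Spec A`, covered by two affine opens `U₁ ∋ x`, `U₂ ∌ x`, all Cousin data over `A` being locally
trivial on `X`.  Then all Cousin data over the local ring at `x` are trivial.
-/

set_option autoImplicit false
universe u
open CategoryTheory CategoryTheory.Limits AlgebraicGeometry TopologicalSpace Opposite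

namespace K955.StalkTriv

open Groth.Agent Groth.Agent.CurvesC Groth.Agent.CurvesC.ModDim
open Groth.Agent.Lipman Groth.Agent.Lipman.Defs Groth.Agent.Resolve.K112.WM Groth.Agent.Resolve.K112.Dict

section transport

variable {K K' : Type u} [Field K] [Field K'] (ε : K' ≃+* K)

/-- From functions on the Zariski-Riemann space to `Sol`. -/
theorem sol_of_isTriv {S : Type u} [CommRing S] [Algebra S K'] (B : Subring K)
    (hB : ∀ b : K, b ∈ B ↔ ∃ s : S, ε (algebraMap S K' s) = b) (h : ∀ φ ∈ D B, IsTriv B φ) : Sol.Sol K' S := by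
  classical
  intro σ _ T f hcov hf
  -- valuation rings of `K` and of `K'`
  have hdown : ∀ V : ValuationSubring K, V ∈ ZR B → ValCousin.Contains S (V.comap (ε : K' →+* K)) := by
    intro V hV s
    rw [ValuationSubring.mem_comap]
    exact hV ((hB _).2 ⟨s, rfl⟩)
  let φ : ValuationSubring K → K := fun V ↦
    if h : ∃ i, (T i : Set K') ⊆ V.comap (ε : K' →+* K) then ε (f h.choose) else 0
  have hφ : ∀ V ∈ ZR B, ∀ i, (T i : Set K') ⊆ V.comap (ε : K' →+* K) → φ V - ε (f i) ∈ V := by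
    intro V hV i hi
    have hex : ∃ i, (T i : Set K') ⊆ V.comap (ε : K' →+* K) := ⟨i, hi⟩
    have h1 : φ V = ε (f hex.choose) := dif_pos hex
    rw [h1, ← map_sub]
    exact hf _ (hdown V hV) _ _ hex.choose_spec hi
  have hD : φ ∈ D B := by
    refine QC.mem_D_of_finite_cover B (L := σ) (fun i ↦ ε '' (T i : Set K'))
      (fun i ↦ (Finset.finite_toSet _).image _) (fun i ↦ ε (f i)) φ ?_ ?_
    · intro V hV
      obtain ⟨i, hi⟩ := hcov _ (hdown V hV)
      refine ⟨i, ?_⟩
      rintro _ ⟨z, hz, rfl⟩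
      exact hi hz
    · intro i V hV hs
      exact hφ V hV i fun z hz ↦ hs _ ⟨z, hz, rfl⟩
  obtain ⟨g, hg⟩ := h φ hD
  refine ⟨ε.symm g, fun V hV i hi ↦ ?_⟩
  let V' : ValuationSubring K := V.comap (ε.symm : K →+* K')
  have hVV' : V'.comap (ε : K' →+* K) = V := by
    ext z
    change ε.symm (ε z) ∈ V ↔ _
    rw [RingEquiv.symm_apply_apply]
  have hV' : V' ∈ ZR B := by
    intro b hb
    obtain ⟨s, rfl⟩ := (hB b).1 hb
    change ε.symm (ε (algebraMap S K' s)) ∈ V
    rw [RingEquiv.symm_apply_apply]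
    exact hV s
  have h1 := hg V' hV'
  have h2 := hφ V' hV' i (by rw [hVV']; exact hi)
  have h3 := sub_mem h2 h1
  rw [sub_sub_sub_cancel_left] at h3
  have h4 : ε.symm (g - ε (f i)) ∈ V := h3
  rwa [map_sub, RingEquiv.symm_apply_apply] at h4

end transport

variable {A : Type u} [CommRing A] {X : Scheme.{u}} [IsIntegral X] (f : X ⟶ Spec (CommRingCat.of A))
  {K : Type u} [Field K] [Algebra A K] (e : K ≃+* X.functionField)

/-- The ring of functions on `U`, in `K`. -/
noncomputable def secRing (U : X.Opens) (hη : genericPoint X ∈ U) : Subring K :=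
  (X.presheaf.germ U (genericPoint X) hη).hom.range.comap (e : K →+* X.functionField)

theorem mem_secRing {U : X.Opens} {hη : genericPoint X ∈ U} {z : K} :
    z ∈ secRing e U hη ↔ ∃ s, X.presheaf.germ U (genericPoint X) hη s = e z := Iff.rfl

/-- The local ring at `x`, in `K`. -/
noncomputable def stalkRing (x : X) : Subring K :=
  (algebraMap (X.presheaf.stalk x) X.functionField).range.comap (e : K →+* X.functionField)

theorem mem_stalkRing {x : X} {z : K} :
    z ∈ stalkRing e x ↔ ∃ s, algebraMap (X.presheaf.stalk x) X.functionField s = e z := Iff.rfl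

theorem mem_ZR_secRing {U : X.Opens} {hη : genericPoint X ∈ U} {V : ValuationSubring K} :
    V ∈ ZR (secRing e U hη) ↔ Cen e U V := by
  constructor
  · intro h
    refine ⟨hη, fun s ↦ ?_⟩
    rw [mem_pullV]
    exact h ((mem_secRing e).2 ⟨s, (e.apply_symm_apply _).symm⟩)
  · rintro ⟨_, h⟩ z hz
    obtain ⟨s, hs⟩ := (mem_secRing e).1 hz
    have h1 := h s
    rw [hs, apply_mem_pullV] at h1
    exact h1

theorem algebraMap_germ {U : X.Opens} (hη : genericPoint X ∈ U) {x : X} (hx : x ∈ U) (s : Γ(X, U)) :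
    algebraMap (X.presheaf.stalk x) X.functionField (X.presheaf.germ U x hx s) =
      X.presheaf.germ U (genericPoint X) hη s := by
  have hne : Nonempty U := ⟨⟨_, hη⟩⟩
  exact Scheme.algebraMap_germ_eq_germToFunctionField X hx s

theorem secRing_le_stalkRing {U : X.Opens} (hη : genericPoint X ∈ U) {x : X} (hx : x ∈ U) :
    secRing e U hη ≤ stalkRing e x := by
  intro z hz
  obtain ⟨s, hs⟩ := (mem_secRing e).1 hz
  exact (mem_stalkRing e).2 ⟨X.presheaf.germ U x hx s, (algebraMap_germ hη hx s).trans hs⟩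

theorem secRing_mono {U U' : X.Opens} (h : U' ≤ U) (hη : genericPoint X ∈ U') :
    secRing e U (h hη) ≤ secRing e U' hη := by
  intro z hz
  obtain ⟨s, hs⟩ := (mem_secRing e).1 hz
  refine (mem_secRing e).2 ⟨X.presheaf.map (homOfLE h).op s, ?_⟩
  rw [← hs]
  exact X.presheaf.germ_res_apply (homOfLE h) (genericPoint X) hη s

theorem inj (x : X) : Function.Injective (algebraMap (X.presheaf.stalk x) X.functionField) :=
  IsFractionRing.injective (X.presheaf.stalk x) X.functionField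

/-- The local ring is a localization of the ring of functions on an affine open. -/
theorem frac {U : X.Opens} (hU : IsAffineOpen U) (hη : genericPoint X ∈ U) {x : X} (hx : x ∈ U) :
    ∀ z ∈ stalkRing e x, ∃ t ∈ secRing e U hη, t ≠ 0 ∧ t⁻¹ ∈ stalkRing e x ∧ z * t ∈ secRing e U hη := by
  intro z hz
  obtain ⟨a, ha⟩ := (mem_stalkRing e).1 hz
  let := TopCat.Presheaf.algebra_section_stalk X.presheaf (⟨x, hx⟩ : U)
  have hloc := hU.isLocalization_stalk ⟨x, hx⟩
  obtain ⟨⟨s, t⟩, hst⟩ := IsLocalization.surj (hU.primeIdealOf ⟨x, hx⟩).asIdeal.primeCompl a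
  have ht : IsUnit (X.presheaf.germ U x hx t.1) := IsLocalization.map_units _ t
  have hst' : a * X.presheaf.germ U x hx t.1 = X.presheaf.germ U x hx s := hst
  have h0 : X.presheaf.germ U (genericPoint X) hη t.1 ≠ 0 := by
    rw [← algebraMap_germ hη hx]
    exact (ht.map _).ne_zero
  refine ⟨e.symm (X.presheaf.germ U (genericPoint X) hη t.1), (mem_secRing e).2 ⟨t.1, (e.apply_symm_apply _).symm⟩,
    (map_ne_zero_iff _ e.symm.injective).2 h0, ?_, ?_⟩
  · rw [mem_stalkRing, ← map_inv₀, RingEquiv.apply_symm_apply]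
    obtain ⟨u, hu⟩ := ht
    refine ⟨(u⁻¹ : (X.presheaf.stalk x)ˣ), ?_⟩
    refine eq_inv_of_mul_eq_one_left ?_
    rw [← algebraMap_germ hη hx, ← hu, ← map_mul, Units.inv_mul, map_one]
  · rw [mem_secRing, map_mul, RingEquiv.apply_symm_apply, ← ha]
    refine ⟨s, ?_⟩
    rw [← algebraMap_germ hη hx, ← algebraMap_germ hη hx, ← map_mul, hst']

/-- The comparison with the stalk. -/
noncomputable def stalkEquiv (x : X) : X.presheaf.stalk x ≃+* stalkRing e x :=
  RingEquiv.ofBijective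
    (((e.symm : X.functionField →+* K).comp (algebraMap (X.presheaf.stalk x) X.functionField)).codRestrict
      (stalkRing e x) fun a ↦ (mem_stalkRing e).2 ⟨a, (e.apply_symm_apply _).symm⟩)
    ⟨fun a b hab ↦ by
      have h1 := congrArg Subtype.val hab
      exact inj x (e.symm.injective h1),
    fun z ↦ by
      obtain ⟨a, ha⟩ := (mem_stalkRing e).1 z.2
      refine ⟨a, Subtype.ext ?_⟩
      change e.symm (algebraMap (X.presheaf.stalk x) X.functionField a) = z
      rw [ha, RingEquiv.symm_apply_apply]⟩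

instance (x : X) : IsLocalRing (stalkRing e x) := (stalkEquiv e x).isLocalRing

instance (x : X) : IsFractionRing (stalkRing e x) K := by
  refine NagataIn.isFractionRing_of_forall _ fun z ↦ ?_
  obtain ⟨a, b, hb, hab⟩ := IsFractionRing.div_surjective (A := X.presheaf.stalk x) (e z)
  have hb0 : algebraMap (X.presheaf.stalk x) X.functionField b ≠ 0 :=
    IsFractionRing.to_map_ne_zero_of_mem_nonZeroDivisors hb
  refine ⟨e.symm (algebraMap _ _ a), (mem_stalkRing e).2 ⟨a, (e.apply_symm_apply _).symm⟩,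
    e.symm (algebraMap _ _ b), (mem_stalkRing e).2 ⟨b, (e.apply_symm_apply _).symm⟩,
    (map_ne_zero_iff _ e.symm.injective).2 hb0, ?_⟩
  rw [← map_div₀, hab, RingEquiv.symm_apply_apply]

theorem isNoetherianRing_stalkRing [IsLocallyNoetherian X] (x : X) : IsNoetherianRing (stalkRing e x) :=
  isNoetherianRing_of_ringEquiv _ (stalkEquiv e x)

theorem isIntegrallyClosed_stalkRing (hX : Pi1.IsNormalScheme X) (x : X) : IsIntegrallyClosed (stalkRing e x) := by
  have := (hX x).2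
  exact IsIntegrallyClosed.of_equiv (stalkEquiv e x)

theorem ringKrullDim_stalkRing (x : X) : ringKrullDim (stalkRing e x) = ringKrullDim (X.presheaf.stalk x) :=
  (ringKrullDim_eq_of_ringEquiv (stalkEquiv e x)).symm

theorem cen_of_mem_ZR {x : X} {V : ValuationSubring K} (hV : V ∈ ZR (stalkRing e x)) {W : X.Opens} (hW : x ∈ W) :
    Cen e W V := by
  have hη := Cousin.mem_of_nonempty X W x hW
  exact (mem_ZR_secRing e (hη := hη)).1 (ZR_anti (secRing_le_stalkRing e hη hW) hV)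

/-- Triviality at the local rings. -/
theorem isTriv_of_LC {φ : ValuationSubring K → K} (h : LC e φ) (x : X) : IsTriv (stalkRing e x) φ := by
  obtain ⟨W, g, hxW, -, hg⟩ := h x
  exact ⟨g, fun V hV ↦ hg V (cen_of_mem_ZR e hV hxW)⟩

/-- The main result. -/
theorem isTriv_stalk [IsLocallyNoetherian X] [IsProper f] (he : ∀ a, e (algebraMap A K a) = ValData.toK f a)
    (hX : Pi1.IsNormalScheme X) (hLC : ∀ φ ∈ DA A K, LC e φ) (x : X)
    (hd : ringKrullDim (X.presheaf.stalk x) ≤ 2) {U₁ U₂ : X.Opens} (hU₁ : IsAffineOpen U₁) (hU₂ : IsAffineOpen U₂)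
    (hcov : U₁ ⊔ U₂ = ⊤) (hx₁ : x ∈ U₁) (hx₂ : x ∉ U₂) (hne : ∃ y, y ∈ U₂) :
    ∀ φ ∈ D (stalkRing e x), IsTriv (stalkRing e x) φ := by
  classical
  intro φ hφ
  have hη₁ : genericPoint X ∈ U₁ := Cousin.mem_of_nonempty X U₁ x hx₁
  obtain ⟨y₂, hy₂⟩ := hne
  have hη₂ : genericPoint X ∈ U₂ := Cousin.mem_of_nonempty X U₂ y₂ hy₂
  have hη₁₂ : genericPoint X ∈ U₁ ⊓ U₂ := ⟨hη₁, hη₂⟩
  have hXs : X.IsSeparated := by
    have : IsSeparated (f ≫ terminal.from _) := inferInstance
    have h2 : f ≫ terminal.from _ = terminal.from X := terminal.hom_ext _ _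
    rw [h2] at this
    exact ⟨this⟩
  have hU₁₂ : IsAffineOpen (U₁ ⊓ U₂) := hU₁.inf hU₂
  have := isNoetherianRing_stalkRing e x
  have := isIntegrallyClosed_stalkRing e hX x
  obtain ⟨T₁, hT₁⟩ := ValData.exists_finset f hU₁ hη₁
  obtain ⟨T₂, hT₂⟩ := ValData.exists_finset f hU₂ hη₂
  -- functions on `U₁` vanishing at `x`, whose basic opens cover `U₁ ⊓ U₂`
  have h1 : ∀ y : (U₁ ⊓ U₂ : X.Opens), ∃ r : Γ(X, U₁), X.basicOpen r ≤ U₁ ⊓ U₂ ∧ y.1 ∈ X.basicOpen r := by
    intro y
    exact hU₁.exists_basicOpen_le ⟨y.1, y.2⟩ y.2.1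
  choose r hr hyr using h1
  obtain ⟨F, hF⟩ : ∃ F : Finset (U₁ ⊓ U₂ : X.Opens), ((U₁ ⊓ U₂ : X.Opens) : Set X) ⊆ ⋃ y ∈ F, (X.basicOpen (r y) : Set X) := by
    refine hU₁₂.isCompact.elim_finite_subcover (fun y ↦ (X.basicOpen (r y) : Set X)) (fun y ↦ (X.basicOpen (r y)).isOpen) ?_
    intro y hy
    exact Set.mem_iUnion.2 ⟨⟨y, hy⟩, hyr ⟨y, hy⟩⟩
  have key : ∀ (U : X.Opens) (hU : IsAffineOpen U) (hη : genericPoint X ∈ U) (T : Finset X.functionField)
      (_ : ∀ V : ValuationSubring X.functionField, (∀ a, ValData.toK f a ∈ V) →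
        ((T : Set X.functionField) ⊆ V ↔ ∀ s : Γ(X, U), X.presheaf.germ U (genericPoint X) hη s ∈ V)),
      ∀ V ∈ ZR (im A K), (∀ s ∈ e.symm '' (T : Set X.functionField), s ∈ V) ↔ V ∈ ZR (secRing e U hη) := by
    intro U hU hη T hT V hV
    rw [mem_ZR_secRing]
    have h1 := hT (pullV e V) (toK_mem f e he hV)
    constructor
    · intro h2
      refine ⟨hη, h1.1 fun z hz ↦ ?_⟩
      exact h2 _ ⟨z, hz, rfl⟩
    · rintro ⟨_, h2⟩ _ ⟨z, hz, rfl⟩
      exact h1.2 h2 hz
  refine ZRGlue.isTriv_of_two_cover (A := im A K) (R := secRing e U₁ hη₁) (R₂ := secRing e U₂ hη₂)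
    (R₁₂ := secRing e (U₁ ⊓ U₂) hη₁₂) (B := stalkRing e x) (secRing_le_stalkRing e hη₁ hx₁)
    (secRing_mono e inf_le_left hη₁₂) (frac e hU₁ hη₁ hx₁) (by rw [ringKrullDim_stalkRing]; exact hd)
    (e.symm '' (T₁ : Set X.functionField)) (e.symm '' (T₂ : Set X.functionField))
    ((Finset.finite_toSet _).image _) ((Finset.finite_toSet _).image _) (key U₁ hU₁ hη₁ T₁ hT₁)
    (key U₂ hU₂ hη₂ T₂ hT₂) ?_ ?_ (ι := F) (fun y ↦ e.symm (X.presheaf.germ U₁ (genericPoint X) hη₁ (r y.1)))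
    ?_ ?_ ?_ (fun ψ hψ ↦ isTriv_of_LC e (hLC ψ hψ) x) hφ
  · intro V hV
    obtain ⟨i, hi⟩ := exists_cen f e he hV (fun b : Bool ↦ if b then U₁ else U₂) (by
      intro b
      cases b
      · exact hη₂
      · exact hη₁) (by
      intro y
      have hy : y ∈ U₁ ⊔ U₂ := by rw [hcov]; trivial
      rcases hy with hy | hy
      · exact ⟨true, hy⟩
      · exact ⟨false, hy⟩)
    cases i
    · exact Or.inr ((mem_ZR_secRing e).2 hi)
    · exact Or.inl ((mem_ZR_secRing e).2 hi)
  · intro V hV hV'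
    rw [mem_ZR_secRing] at hV hV' ⊢
    obtain ⟨_, h1⟩ := hV
    obtain ⟨_, h2⟩ := hV'
    exact ⟨hη₁₂, ValData.mem_inter f hU₁ hU₂ hη₁ hη₂ h1 h2⟩
  · intro y
    exact (mem_secRing e).2 ⟨r y.1, (e.apply_symm_apply _).symm⟩
  · intro y h0 hinv
    have hxr : x ∉ X.basicOpen (r y.1) := fun h ↦ hx₂ (hr y.1 h).2
    apply hxr
    rw [Scheme.mem_basicOpen X _ x hx₁]
    rw [mem_stalkRing, map_inv₀, RingEquiv.apply_symm_apply] at hinv
    obtain ⟨b, hb⟩ := hinv
    have h0' : X.presheaf.germ U₁ (genericPoint X) hη₁ (r y.1) ≠ 0 := (map_ne_zero_iff _ e.symm.injective).1 h0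
    refine IsUnit.of_mul_eq_one b (inj x ?_)
    rw [map_mul, hb, map_one, algebraMap_germ hη₁ hx₁, mul_inv_cancel₀ h0']
  · intro V hV
    rw [mem_ZR_secRing] at hV
    obtain ⟨_, h1⟩ := hV
    obtain ⟨l, hl, hlU⟩ := ValData.exists_lift_of_isAffineOpen hU₁₂ hη₁₂ h1
    have h2 := hF hlU
    simp only [Set.mem_iUnion] at h2
    obtain ⟨y, hyF, hy⟩ := h2
    have hηr : genericPoint X ∈ X.basicOpen (r y) := Cousin.mem_of_nonempty X _ _ hy
    have hunit : IsUnit (X.presheaf.germ U₁ (genericPoint X) hη₁ (r y)) := by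
      rw [← Scheme.mem_basicOpen X _ _ hη₁]
      exact hηr
    refine ⟨⟨y, hyF⟩, (map_ne_zero_iff _ e.symm.injective).2 hunit.ne_zero, ?_⟩
    rw [← map_inv₀, ← mem_pullV]
    have hu : IsUnit (X.presheaf.map (homOfLE (X.basicOpen_le (r y))).op (r y)) :=
      RingedSpace.isUnit_res_basicOpen _ (r y)
    obtain ⟨u, hu⟩ := hu
    have h3 := ValData.mem_of_lift (pullV e V) l hl (X.basicOpen (r y)) hy hηr ((u⁻¹ : (Γ(X, X.basicOpen (r y)))ˣ) : Γ(X, X.basicOpen (r y)))
    have h4 : X.presheaf.germ (X.basicOpen (r y)) (genericPoint X) hηr ((u⁻¹ : (Γ(X, X.basicOpen (r y)))ˣ) : Γ(X, X.basicOpen (r y))) =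
        (X.presheaf.germ U₁ (genericPoint X) hη₁ (r y))⁻¹ := by
      refine eq_inv_of_mul_eq_one_left ?_
      have h5 : X.presheaf.germ U₁ (genericPoint X) hη₁ (r y) =
          X.presheaf.germ (X.basicOpen (r y)) (genericPoint X) hηr (X.presheaf.map (homOfLE (X.basicOpen_le (r y))).op (r y)) :=
        (X.presheaf.germ_res_apply (homOfLE (X.basicOpen_le (r y))) (genericPoint X) hηr (r y)).symm
      rw [h5, ← hu, ← map_mul, Units.inv_mul, map_one]
    rwa [h4] at h3

end K955.StalkTriv
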