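import Groth.Agent.Resolve.K372.PowSec
import Groth.Agent.Resolve.K374.TwistVan
import Groth.Agent.AbVar.K516.IdealMul
import Groth.Agent.Fga.TwistCoh
import Groth.Agent.Dix.IdealModCartier
import Groth.Agent.VarietyB.DegCartier
import Groth.Agent.VarietyB.TensLoc
import Groth.Agent.Divis.EffCartier
import Groth.Agent.VarietyA.H0Equiv
import Groth.Agent.Resolve.K955.LerayLow

/-!
# Cohomology of the twists of an invertible extended maximal ideal (helper955)

`X → Spec A` a modification of a normal local ring of dimension two with `H^1(X, O_X) = 0`, such that `E = m O_X` is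
invertible.

* `isIso_mulI` : `E^n ⊗ E ≅ E^{n+1}`; `nonempty_iso_pow` : `E^n ≅ E^{⊗ n}`.
* `exists_kappa` : `H^0(X, J) ⊆ A`.
* `twist_one` : `H^1(X, E^{⊗ n} ⊗ O/E) = 0`; `twist_zero` : `H^0(X, E^{⊗ n} ⊗ O/E)` has length `ℓ(m^n/m^{n+1})`.
-/

set_option autoImplicit false
universe u
open CategoryTheory CategoryTheory.Limits AlgebraicGeometry TopologicalSpace Opposite

namespace K955.TwistPow

open Groth.Agent Groth.Agent.Ega2.Tens Groth.Agent.PerfA.IdealModule Groth.Agent.VarietyA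
open K516.IdealMul

section mul

variable {X : Scheme.{u}} (I J : X.IdealSheafData)

theorem mulO_eq : mulO I J = (DCoh.tensorBi.obj (ClSub.idealMod I)).map (ClSub.idealModι J) ≫
    (runit (ClSub.idealMod I)).hom ≫ ClSub.idealModι I := by
  refine hom_ext _ _ fun U m n => ?_
  refine (mulO_tmul I J m n).trans ?_
  have h1 : ((DCoh.tensorBi.obj (ClSub.idealMod I)).map (ClSub.idealModι J) ≫
      (runit (ClSub.idealMod I)).hom ≫ ClSub.idealModι I).app U (tmul m n) =
      (ClSub.idealModι I).app U ((runit (ClSub.idealMod I)).hom.app U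
        (((DCoh.tensorBi.obj (ClSub.idealMod I)).map (ClSub.idealModι J)).app U (tmul m n))) := rfl
  refine Eq.trans ?_ h1.symm
  have h2 : ((DCoh.tensorBi.obj (ClSub.idealMod I)).map (ClSub.idealModι J)).app U (tmul m n) =
      tmul m (sm (val J n)) := VarietyB.TensLoc.tensorBi_map_app_tmul _ _ m n
  rw [h2, runit_hom_tmul]
  exact (mul_comm (G := Γ(X, U)) _ _).trans (val_smul I (val J n) m).symm

theorem mono_idealModι' : Mono (ClSub.idealModι J) :=
  (VarietyB.DegCartier.idealSeq_shortExact J).mono_f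

theorem shortExact_ideal (w : ClSub.idealModι J ≫ ClSub.toSubscheme J = 0) :
    (ShortComplex.mk (ClSub.idealModι J) (ClSub.toSubscheme J) w).ShortExact :=
  VarietyB.DegCartier.idealSeq_shortExact J

variable {I}

theorem mono_mulO (hI : PicF.IsInvertible (ClSub.idealMod I)) : Mono (mulO I J) := by
  have h1 : Mono ((DCoh.tensorBi.obj (ClSub.idealMod I)).map (ClSub.idealModι J)) :=
    (Fga.TwistCoh.shortExact_tensorBi hI _ (shortExact_ideal J (kernel.condition _))).mono_f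
  have h2 := mono_idealModι' I
  have h3 : Mono (runit (ClSub.idealMod I)).hom := IsIso.mono_of_iso _
  rw [mulO_eq]
  exact mono_comp' h1 (mono_comp' h3 h2)

theorem isIso_mulI (hI : PicF.IsInvertible (ClSub.idealMod I)) : IsIso (mulI I J) := by
  have h0 := mono_mulO J hI
  have h1 : Mono (mulI I J ≫ ClSub.idealModι (I * J)) := by rw [mulI_ι]; exact h0
  have h2 : Mono (mulI I J) := mono_of_mono _ (ClSub.idealModι (I * J))
  exact isIso_of_mono_of_epi _

theorem isEff_pow {C : X.IdealSheafData} (hC : BlowUp.IsEffCartierIdeal C) (n : ℕ) :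
    BlowUp.IsEffCartierIdeal (C ^ n) := by
  induction n with
  | zero => rw [pow_zero, Scheme.IdealSheafData.one_eq_top]; exact Divis.EffCartier.isEff_top
  | succ n ih => rw [pow_succ]; exact Divis.EffCartier.isEff_mul ih hC

theorem isIso_idealModι_top : IsIso (C := X.Modules) (ClSub.idealModι (⊤ : X.IdealSheafData)) := by
  have h1 : Epi (ClSub.idealModι (⊤ : X.IdealSheafData)) := by
    apply CohqB.AlgMod.epi_of_surjective_affine
    intro U hU s
    obtain ⟨y, hy⟩ := exists_val_eq (⊤ : X.IdealSheafData) ⟨U, hU⟩ (a := s) (by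
      rw [Scheme.IdealSheafData.ideal_top]; trivial)
    exact ⟨y, hy⟩
  have h2 := mono_idealModι' (⊤ : X.IdealSheafData)
  exact isIso_of_mono_of_epi _

/-- `E^n ≅ E^{⊗ n}` for an effective Cartier divisor. -/
theorem nonempty_iso_pow {E : X.IdealSheafData} (hE : BlowUp.IsEffCartierIdeal E) (n : ℕ) :
    Nonempty (ClSub.idealMod (E ^ n) ≅ CohB1.tensorPow (ClSub.idealMod E) n) := by
  have hinv : ∀ n, PicF.IsInvertible (ClSub.idealMod (E ^ n)) := fun n =>
    (Dix.IdealModCartier.isInvertible_idealMod_iff _).2 (isEff_pow hE n)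
  induction n with
  | zero =>
    rw [pow_zero, Scheme.IdealSheafData.one_eq_top]
    have h1 := isIso_idealModι_top (X := X)
    have e : ClSub.idealMod (⊤ : X.IdealSheafData) ≅ Coh.structureModule X := asIso (ClSub.idealModι (⊤ : X.IdealSheafData))
    exact ⟨e⟩
  | succ n ih =>
    obtain ⟨e⟩ := ih
    have h1 := isIso_mulI E (hinv n)
    have h2 : E ^ n * E = E ^ (n + 1) := (pow_succ E n).symm
    rw [← h2]
    exact ⟨(asIso (mulI (E ^ n) E)).symm ≪≫ (DCoh.tensorBi.mapIso e).app (ClSub.idealMod E)⟩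

end mul

section kappa

variable {A : Type u} [CommRing A] {X : Scheme.{u}} [X.Over (Spec (CommRingCat.of A))]

omit [X.Over (Spec (CommRingCat.of A))] in
theorem toSec_top (f : X ⟶ Spec (CommRingCat.of A)) (a : A) :
    (CurvesC.ModDim.toSec f ⊤ a : Γ(X, ⊤)) = (Coh.toGlobal f a : Γ(X, ⊤)) := by
  have h1 : X.presheaf.map (homOfLE (le_top : (⊤ : X.Opens) ≤ ⊤)).op = 𝟙 _ := X.presheaf.map_id _
  change (X.presheaf.map (homOfLE (le_top : (⊤ : X.Opens) ≤ ⊤)).op).hom _ = _
  rw [h1]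
  rfl

theorem exists_gE : ∃ g : Coh.HH X (Coh.structureModule X) 0 ≃+ Γ(X, ⊤),
    (∀ (a : A) (x : Coh.HH X (Coh.structureModule X) 0),
      g (a • x) = CurvesC.ModDim.toSec (X ↘ Spec (CommRingCat.of A)) ⊤ a * g x) ∧
    ∀ J : X.IdealSheafData, ∃ h : Coh.HH X (ClSub.idealMod J) 0 ≃+ Γ(ClSub.idealMod J, ⊤),
      ∀ x, g (EulerLES.mapA A (ClSub.idealModι J) 0 x) = val J (h x) := by
  refine ⟨H0Equiv.hZeroEquiv (Coh.structureModule X), fun a x => ?_, fun J => ⟨H0Equiv.hZeroEquiv (ClSub.idealMod J),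
    fun x => ?_⟩⟩
  · rw [toSec_top]
    exact H0Equiv.hZeroEquiv_smul (Coh.structureModule X) (Coh.toGlobal (X ↘ Spec (CommRingCat.of A)) a) x
  · exact (Sheaf.H.equiv₀_naturality (H0Equiv.isTerminalTop X) ((EulerLES.toAbF X).map (ClSub.idealModι J)) x).symm

variable (A) in
/-- A global section of the structure sheaf which lies in `J` on all affine opens. -/
theorem exists_sec (J : X.IdealSheafData) (s : Γ(X, ⊤))
    (h : ∀ V : X.affineOpens, X.presheaf.map (homOfLE (le_top : V.1 ≤ ⊤)).op s ∈ J.ideal V) :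
    ∃ y : Γ(ClSub.idealMod J, ⊤), val J y = s := by
  have h1 := app_eq_zero J s fun V hV => h V
  exact (exact_app J ⊤ s).1 h1

open CurvesC.ModDim in
/-- Global sections of ideal sheaves are ideals of `A`. -/
theorem exists_kappa (hb : Function.Bijective (toSec (X ↘ Spec (CommRingCat.of A)) ⊤)) :
    ∃ κ : Coh.HH X (Coh.structureModule X) 0 →ₗ[A] A, Function.Injective κ ∧
      ∀ (J : X.IdealSheafData) (a : A), (∀ U : X.affineOpens, toSec (X ↘ Spec (CommRingCat.of A)) U.1 a ∈ J.ideal U) ↔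
        ∃ x : Coh.HH X (ClSub.idealMod J) 0, κ (EulerLES.mapA A (ClSub.idealModι J) 0 x) = a := by
  obtain ⟨g, hg, hJ⟩ := exists_gE (A := A) (X := X)
  have h0 : ∃ κ : Coh.HH X (Coh.structureModule X) 0 →ₗ[A] A, ∀ x,
      toSec (X ↘ Spec (CommRingCat.of A)) ⊤ (κ x) = g x := by
    let e := Equiv.ofBijective _ hb
    have he : ∀ x, toSec (X ↘ Spec (CommRingCat.of A)) ⊤ (e.symm x) = x := fun x => e.apply_symm_apply x
    refine ⟨{ toFun := fun x => e.symm (g x)
              map_add' := fun x y => ?_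
              map_smul' := fun a x => ?_ }, fun x => he _⟩
    · apply hb.1
      rw [map_add g, he, map_add (toSec (X ↘ Spec (CommRingCat.of A)) ⊤), he, he]
    · apply hb.1
      rw [RingHom.id_apply, smul_eq_mul, map_mul, he, he]
      exact hg a x
  obtain ⟨κ, hκ⟩ := h0
  refine ⟨κ, fun x y h => ?_, fun J a => ⟨fun h => ?_, ?_⟩⟩
  · apply g.injective
    rw [← hκ, ← hκ, h]
  · obtain ⟨h', hh'⟩ := hJ J
    obtain ⟨y, hy⟩ := exists_sec J (toSec (X ↘ Spec (CommRingCat.of A)) ⊤ a) fun V => by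
      have h1 := toSec_res (X ↘ Spec (CommRingCat.of A)) (le_top : V.1 ≤ ⊤) a
      have h2 := h V
      rw [← h1] at h2
      exact h2
    refine ⟨h'.symm y, hb.1 ?_⟩
    rw [hκ, hh', AddEquiv.apply_symm_apply]
    exact hy
  · rintro ⟨x, rfl⟩ U
    obtain ⟨h', hh'⟩ := hJ J
    rw [← toSec_res (X ↘ Spec (CommRingCat.of A)) (le_top : U.1 ≤ ⊤), hκ, hh']
    have h1 := val_mem J U ((ClSub.idealMod J).presheaf.map (homOfLE (le_top : U.1 ≤ ⊤)).op (h' x))
    rw [val_map] at h1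
    exact h1

end kappa

section alg

variable {A : Type u} [CommRing A] {H M₁ M₂ N₁ N₂ N₃ : Type u} [AddCommGroup H] [Module A H] [AddCommGroup M₁] [Module A M₁]
  [AddCommGroup M₂] [Module A M₂] [AddCommGroup N₁] [Module A N₁] [AddCommGroup N₂] [Module A N₂] [AddCommGroup N₃]
  [Module A N₃]

/-- The final computation. -/
theorem length_eq (I J : Ideal A) (κ : H →ₗ[A] A) (hκ : Function.Injective κ)
    (i₁ : M₁ →ₗ[A] H) (hi₁ : ∀ a, a ∈ J ↔ ∃ x, κ (i₁ x) = a)
    (i₂ : M₂ →ₗ[A] H) (hinj : Function.Injective i₂) (hi₂ : ∀ a, a ∈ I ↔ ∃ x, κ (i₂ x) = a)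
    (u : N₁ →ₗ[A] N₂) (v : N₂ →ₗ[A] N₃) (huv : Function.Exact u v) (hv : Function.Surjective v)
    (m : N₁ ≃ₗ[A] M₁) (r : N₂ ≃ₗ[A] M₂) (hmr : ∀ x, i₂ (r (u x)) = i₁ (m x)) :
    Module.length A N₃ = Module.length A (↥I ⧸ Submodule.comap I.subtype J) := by
  have hI : ∀ x : N₂, κ (i₂ (r x)) ∈ I := fun x => (hi₂ _).2 ⟨r x, rfl⟩
  let φ : N₂ →ₗ[A] I := LinearMap.codRestrict I (κ.comp (i₂.comp r.toLinearMap)) hI
  have hφ : ∀ x, (φ x : A) = κ (i₂ (r x)) := fun x => rfl
  have hφi : Function.Injective φ := fun x y h => by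
    have h1 : κ (i₂ (r x)) = κ (i₂ (r y)) := congrArg Subtype.val h
    exact r.injective (hinj (hκ h1))
  have hφs : Function.Surjective φ := fun a => by
    obtain ⟨x, hx⟩ := (hi₂ a.1).1 a.2
    refine ⟨r.symm x, Subtype.ext ?_⟩
    rw [hφ, LinearEquiv.apply_symm_apply, hx]
  have key : ∀ x, v x = 0 ↔ (φ x : A) ∈ J := by
    intro x
    rw [huv x, hi₁]
    constructor
    · rintro ⟨y, rfl⟩
      exact ⟨m y, by rw [hφ, hmr]⟩
    · rintro ⟨z, hz⟩
      refine ⟨m.symm z, ?_⟩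
      apply r.injective
      apply hinj
      apply hκ
      rw [hmr, LinearEquiv.apply_symm_apply, hz, hφ]
  let π : N₂ →ₗ[A] (↥I ⧸ Submodule.comap I.subtype J) := (Submodule.mkQ _).comp φ
  have hπ : Function.Surjective π := (Submodule.mkQ_surjective _).comp hφs
  have hker : LinearMap.ker π = LinearMap.ker v := by
    ext x
    rw [LinearMap.mem_ker, LinearMap.mem_ker, key]
    change Submodule.mkQ _ (φ x) = 0 ↔ _
    rw [Submodule.mkQ_apply, Submodule.Quotient.mk_eq_zero, Submodule.mem_comap]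
    rfl
  have e1 := π.quotKerEquivOfSurjective hπ
  have e2 := v.quotKerEquivOfSurjective hv
  exact ((e2.symm.trans (Submodule.quotEquivOfEq _ _ hker.symm)).trans e1).length_eq

end alg

section ses

variable {X : Scheme.{u}}

theorem exists_shortExact (S : ShortComplex X.Modules) (hS : S.ShortExact) {P : X.Modules} (hP : PicF.IsInvertible P) :
    ∃ w : (DCoh.tensorBi.obj P).map S.f ≫ (DCoh.tensorBi.obj P).map S.g = 0,
      (ShortComplex.mk ((DCoh.tensorBi.obj P).map S.f)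
        ((DCoh.tensorBi.obj P).map S.g) w).ShortExact := by
  have h := Fga.TwistCoh.shortExact_tensorBi hP S hS
  exact ⟨(S.map (DCoh.tensorBi.obj P)).zero, h⟩

theorem exists_shortExact' {M N Q : X.Modules} (i : M ⟶ N) (p : N ⟶ Q) (w : i ≫ p = 0)
    (hS : (ShortComplex.mk i p w).ShortExact) {P : X.Modules} (hP : PicF.IsInvertible P) :
    ∃ w : (DCoh.tensorBi.obj P).map i ≫ (DCoh.tensorBi.obj P).map p = 0,
      (ShortComplex.mk ((DCoh.tensorBi.obj P).map i) ((DCoh.tensorBi.obj P).map p) w).ShortExact :=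
  exists_shortExact (ShortComplex.mk i p w) hS hP

theorem exists_mulI_iso {I : X.IdealSheafData} (E : X.IdealSheafData) (hI : PicF.IsInvertible (ClSub.idealMod I)) :
    ∃ m : (DCoh.tensorBi.obj (ClSub.idealMod I)).obj (ClSub.idealMod E) ≅ ClSub.idealMod (I * E),
      (DCoh.tensorBi.obj (ClSub.idealMod I)).map (ClSub.idealModι E) ≫ (runit (ClSub.idealMod I)).hom ≫
        ClSub.idealModι I = m.hom ≫ ClSub.idealModι (I * E) := by
  have hm := isIso_mulI E hI
  exact ⟨@asIso _ _ _ _ (mulI I E) hm, (mulO_eq I E).symm.trans (mulI_ι I E).symm⟩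

end ses

section abs

variable {A : Type u} [CommRing A] {X : Scheme.{u}} [X.Over (Spec (CommRingCat.of A))]

/-- `mapA` of an ideal inclusion is injective on `H^0`. -/
theorem injective_mapA {P Q : X.Modules} (φ : P ⟶ Q) (hφ : Mono φ) : Function.Injective (EulerLES.mapA A φ 0) := by
  have h1 : Mono ((EulerLES.toAbF X).map φ) := inferInstance
  exact Abelian.Ext.postcomp_mk₀_injective_of_mono _ ((EulerLES.toAbF X).map φ)

/-- The length of `H^0(P ⊗ O/J)`, abstractly. -/
theorem length_abs {O P Q T₁ T₂ T₃ : X.Modules} (κ : Coh.HH X O 0 →ₗ[A] A) (hκ : Function.Injective κ) (I J : Ideal A)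
    (iP : P ⟶ O) (iQ : Q ⟶ O) (hiP : Mono iP) (f : T₁ ⟶ T₂) (g : T₂ ⟶ T₃) (w : f ≫ g = 0)
    (hS : (ShortComplex.mk f g w).ShortExact) (m : T₁ ≅ Q) (r : T₂ ≅ P) (hmr : f ≫ r.hom ≫ iP = m.hom ≫ iQ)
    (hJ : ∀ a, a ∈ J ↔ ∃ x : Coh.HH X Q 0, κ (EulerLES.mapA A iQ 0 x) = a)
    (hI : ∀ a, a ∈ I ↔ ∃ x : Coh.HH X P 0, κ (EulerLES.mapA A iP 0 x) = a)
    (h1 : Subsingleton (Coh.HH X T₁ 1)) :
    Module.length A (Coh.HH X T₃ 0) = Module.length A (↥I ⧸ Submodule.comap I.subtype J) := by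
  obtain ⟨d, hd, -⟩ := K955.LerayLow.exists_delta (A := A) f g w hS 0
  refine length_eq I J κ hκ (EulerLES.mapA A iQ 0) hJ (EulerLES.mapA A iP 0) (injective_mapA iP hiP) hI
    (EulerLES.mapA A f 0) (EulerLES.mapA A g 0) (K955.LerayLow.exact_mid f g w hS 0) (fun x => (hd x).1 ?_)
    (EulerLES.equivA A m 0) (EulerLES.equivA A r 0) fun x => ?_
  · exact Subsingleton.elim _ _
  · have h2 := congrArg (fun φ => EulerLES.mapA A φ 0 x) hmr
    simp only [EulerLES.mapA_comp] at h2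
    exact h2

theorem length_aux (κ : Coh.HH X (Coh.structureModule X) 0 →ₗ[A] A) (hκ : Function.Injective κ) {I E : X.IdealSheafData}
    (hinv : PicF.IsInvertible (ClSub.idealMod I)) {a b : Ideal A}
    (hJ : ∀ x, x ∈ b ↔ ∃ y : Coh.HH X (ClSub.idealMod (I * E)) 0, κ (EulerLES.mapA A (ClSub.idealModι (I * E)) 0 y) = x)
    (hI : ∀ x, x ∈ a ↔ ∃ y : Coh.HH X (ClSub.idealMod I) 0, κ (EulerLES.mapA A (ClSub.idealModι I) 0 y) = x)
    (h1 : Subsingleton (Coh.HH X (CohB1.tensorMod (ClSub.idealMod I) (ClSub.idealMod E)) 1)) :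
    Module.length A (Coh.HH X (CohB1.tensorMod (ClSub.idealMod I) (ClSub.quotMod E)) 0) =
      Module.length A (↥a ⧸ Submodule.comap a.subtype b) := by
  obtain ⟨m, hm⟩ := exists_mulI_iso E hinv
  obtain ⟨w, hS⟩ := exists_shortExact' _ _ _ (VarietyB.DegCartier.idealSeq_shortExact E) hinv
  exact length_abs κ hκ a b (ClSub.idealModι I) (ClSub.idealModι (I * E)) (mono_idealModι' I) _ _ w hS
    m (runit (ClSub.idealMod I)) hm hJ hI h1

end abs

section main

variable {A : Type u} [CommRing A] [IsDomain A] [IsLocalRing A] [IsNoetherianRing A] [IsIntegrallyClosed A]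
  (hdim : ringKrullDim A = 2) {X : Scheme.{u}} [X.Over (Spec (CommRingCat.of A))]
  (hf : CurvesC.Modif.IsModif (X ↘ Spec (CommRingCat.of A)))
  (hvan : ∀ M : X.Modules, Coh.IsCoh M → Subsingleton (Coh.HH X M 2))
  (hX : Subsingleton (Coh.HH X (Coh.structureModule X) 1))
  {E : X.IdealSheafData} (hEm : E = (Curv2.idealSheaf A (IsLocalRing.maximalIdeal A)).comap (X ↘ Spec (CommRingCat.of A)))
  (hE : BlowUp.IsEffCartierIdeal E) (n : ℕ)

include hf hvan hX hEm in
theorem subsingleton_pow : Subsingleton (Coh.HH X (ClSub.idealMod (E ^ n)) 1) := by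
  subst hEm
  exact K372.PowSec.subsingleton_HH_pow (X ↘ Spec (CommRingCat.of A)) hf hvan hX n _

include hdim hf hvan hX hEm in
/-- `H^1(X, E^n ⊗ O_X/E) = 0`. -/
theorem subsingleton_pow_quot : Subsingleton (Coh.HH X (CohB1.tensorMod (ClSub.idealMod (E ^ n)) (ClSub.quotMod E)) 1) := by
  have := hf.proper
  have := hf.integral
  have hN : IsLocallyNoetherian X := LocallyOfFiniteType.isLocallyNoetherian (X ↘ Spec (CommRingCat.of A))
  have h1 := subsingleton_pow hf hvan hX hEm n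
  have h2 := K374.TwistVan.subsingleton_of_iso' (runit (ClSub.idealMod (E ^ n))).symm 1 h1
  obtain ⟨U, hU, hfU⟩ := hf.exists_isIso
  have h3 := VarietyB.DegCartier.epi_toSubscheme E
  let φ : (DCoh.tensorBi.obj (ClSub.idealMod (E ^ n))).obj (Coh.structureModule X) ⟶
      (DCoh.tensorBi.obj (ClSub.idealMod (E ^ n))).obj (ClSub.quotMod E) :=
    (DCoh.tensorBi.obj (ClSub.idealMod (E ^ n))).map (ClSub.toSubscheme E)
  have h4 : Epi φ := @K374.TwistVan.epi_map X (ClSub.idealMod (E ^ n)) _ _ (ClSub.toSubscheme E) h3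
  have hq : Coh.IsQCoh (ClSub.idealMod (E ^ n)) := CohqA.IdealMod.isQCoh_idealMod _
  exact K372.QCohVan.subsingleton_of_epi hdim (X ↘ Spec (CommRingCat.of A)) ⟨U, hU, hfU⟩
    (G := (DCoh.tensorBi.obj (ClSub.idealMod (E ^ n))).obj (Coh.structureModule X))
    (F := (DCoh.tensorBi.obj (ClSub.idealMod (E ^ n))).obj (ClSub.quotMod E))
    (Ega1.TensorRestrict.isQCoh_tensorMod _ _ hq (CurvesB.UnitCoh.isCoh_structureModule X).1)
    (Ega1.TensorRestrict.isQCoh_tensorMod _ _ hq (VarietyB.DegCartier.isCoh_quotMod E).1) φ h2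

include hdim hf hvan hX hEm hE in
/-- `H^1(X, E^{⊗ n} ⊗ O_X/E) = 0`. -/
theorem twist_one : Subsingleton (Coh.HH X
    (CohB1.tensorMod (CohB1.tensorPow (ClSub.idealMod E) n) (ClSub.quotMod E)) 1) := by
  obtain ⟨e⟩ := nonempty_iso_pow hE n
  exact K374.TwistVan.subsingleton_of_iso' ((DCoh.tensorBi.mapIso e).app (ClSub.quotMod E)) 1
    (subsingleton_pow_quot hdim hf hvan hX hEm n)

include hf hvan hX hEm hE in
/-- `H^0(X, E^n ⊗ O_X/E)` has the length of `m^n/m^{n+1}`. -/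
theorem length_pow_quot : Module.length A (Coh.HH X (CohB1.tensorMod (ClSub.idealMod (E ^ n)) (ClSub.quotMod E)) 0) =
    Module.length A (↥(IsLocalRing.maximalIdeal A ^ n) ⧸
      (Submodule.comap (IsLocalRing.maximalIdeal A ^ n).subtype (IsLocalRing.maximalIdeal A ^ (n + 1)))) := by
  have hinv : PicF.IsInvertible (ClSub.idealMod (E ^ n)) :=
    (Dix.IdealModCartier.isInvertible_idealMod_iff _).2 (isEff_pow hE n)
  obtain ⟨κ, hκ, hκJ⟩ := exists_kappa (A := A) (X := X) hf.bijective_toSec_top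
  have hmem : ∀ k (a : A), a ∈ IsLocalRing.maximalIdeal A ^ k ↔
      ∃ x : Coh.HH X (ClSub.idealMod (E ^ k)) 0, κ (EulerLES.mapA A (ClSub.idealModι (E ^ k)) 0 x) = a := by
    intro k a
    rw [← hκJ, hEm]
    subst hEm
    exact (K372.PowSec.mem_pow_iff (X ↘ Spec (CommRingCat.of A)) hf hvan hX hE k a).symm
  have hm := isIso_mulI E hinv
  have hpow : E ^ n * E = E ^ (n + 1) := (pow_succ E n).symm
  have h1 : Subsingleton (Coh.HH X (ClSub.idealMod (E ^ n * E)) 1) := by
    rw [hpow]; exact subsingleton_pow hf hvan hX hEm (n + 1)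
  have h2 : Subsingleton (Coh.HH X (CohB1.tensorMod (ClSub.idealMod (E ^ n)) (ClSub.idealMod E)) 1) :=
    K374.TwistVan.subsingleton_of_iso' (asIso (mulI (E ^ n) E)).symm 1 h1
  have hmem1 : ∀ a : A, a ∈ IsLocalRing.maximalIdeal A ^ (n + 1) ↔
      ∃ x : Coh.HH X (ClSub.idealMod (E ^ n * E)) 0, κ (EulerLES.mapA A (ClSub.idealModι (E ^ n * E)) 0 x) = a := by
    rw [hpow]; exact hmem (n + 1)
  exact length_aux κ hκ hinv hmem1 (hmem n) h2

include hf hvan hX hEm hE in
/-- `H^0(X, E^{⊗ n} ⊗ O_X/E)` has the length of `m^n/m^{n+1}`. -/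
theorem twist_zero : Module.length A (Coh.HH X
    (CohB1.tensorMod (CohB1.tensorPow (ClSub.idealMod E) n) (ClSub.quotMod E)) 0) =
    Module.length A (↥(IsLocalRing.maximalIdeal A ^ n) ⧸
      (Submodule.comap (IsLocalRing.maximalIdeal A ^ n).subtype (IsLocalRing.maximalIdeal A ^ (n + 1)))) := by
  obtain ⟨e⟩ := nonempty_iso_pow hE n
  rw [← length_pow_quot hf hvan hX hEm hE n]
  have h1 : (DCoh.tensorBi.obj (ClSub.idealMod (E ^ n))).obj (ClSub.quotMod E) ≅
      (DCoh.tensorBi.obj (CohB1.tensorPow (ClSub.idealMod E) n)).obj (ClSub.quotMod E) :=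
    (DCoh.tensorBi.mapIso e).app (ClSub.quotMod E)
  exact ((EulerLES.equivA A h1 0).length_eq).symm

end main

end K955.TwistPow
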