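import Mathlib.Topology.KrullDimension
import Mathlib.Topology.NoetherianSpace
import Mathlib.AlgebraicGeometry.Morphisms.Proper
import Mathlib.AlgebraicGeometry.Fiber
import Groth.Agent.Ega2.FiniteSet
import Groth.Agent.CurvesC.ModDim

/-!
# Two affine opens covering a modification (helper955)

`f : X ⟶ Spec A` proper with an ample invertible sheaf on `X`, `A` local, the closed fibre of dimension at most one.
For every closed point `x` there are affine opens `U₁ ∋ x`, `U₂ ∌ x` covering `X`.
-/

set_option autoImplicit false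
universe u
open CategoryTheory CategoryTheory.Limits AlgebraicGeometry TopologicalSpace

namespace K955.TwoCover

open Groth.Agent

section top

variable {Y : Type*} [TopologicalSpace Y] [QuasiSober Y] [T0Space Y]

/-- A closed subset of a Noetherian space of dimension at most one which contains no generic point of an irreducible
component is finite. -/
theorem finite_of_isClosed [NoetherianSpace Y] (hdim : topologicalKrullDim Y ≤ 1) (C : Set Y) (hC : IsClosed C)
    (h : ∀ c ∈ C, closure {c} ∉ irreducibleComponents Y) : C.Finite := by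
  obtain ⟨S, hS, hcl, hirr, hCS⟩ := NoetherianSpace.exists_finite_set_isClosed_irreducible hC
  have key : ∀ t ∈ S, ∃ c : Y, t ⊆ {c} := by
    intro t ht
    obtain ⟨c, hc⟩ := QuasiSober.sober (hirr t ht) (hcl t ht)
    refine ⟨c, fun x hx => ?_⟩
    by_contra hxc
    have hct : closure {c} = t := hc.def
    have hcC : c ∈ C := by rw [hCS]; exact ⟨t, ht, by rw [← hct]; exact subset_closure rfl⟩
    obtain ⟨Z, hZ, hZc⟩ := exists_mem_irreducibleComponents_subset_of_isIrreducible (closure {c})
      isIrreducible_singleton.closure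
    have hZcl : IsClosed Z := isClosed_of_mem_irreducibleComponents Z hZ
    let a : IrreducibleCloseds Y := ⟨closure {x}, isIrreducible_singleton.closure, isClosed_closure⟩
    let b : IrreducibleCloseds Y := ⟨closure {c}, isIrreducible_singleton.closure, isClosed_closure⟩
    let z : IrreducibleCloseds Y := ⟨Z, hZ.1, hZcl⟩
    have hab : a < b := by
      refine lt_of_le_of_ne ?_ ?_
      · change closure {x} ⊆ closure {c}
        exact closure_minimal (Set.singleton_subset_iff.2 (by rw [hct]; exact hx)) isClosed_closure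
      · intro e
        have e' : closure {x} = closure {c} := congrArg (fun q : IrreducibleCloseds Y => (q : Set Y)) e
        apply hxc
        exact (inseparable_iff_closure_eq.2 e').eq
    have hbz : b < z := by
      refine lt_of_le_of_ne hZc ?_
      intro e
      have e' : closure {c} = Z := congrArg (fun q : IrreducibleCloseds Y => (q : Set Y)) e
      exact h c hcC (e' ▸ hZ)
    let p : LTSeries (IrreducibleCloseds Y) := ⟨2, ![a, b, z], by
      intro i
      fin_cases i
      · exact hab
      · exact hbz⟩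
    have := (Order.LTSeries.length_le_krullDim p).trans hdim
    change ((2 : ℕ) : WithBot ℕ∞) ≤ 1 at this
    exact absurd this (by decide)
  rw [hCS, Set.sUnion_eq_biUnion]
  refine hS.biUnion fun t ht => ?_
  obtain ⟨c, hc⟩ := key t ht
  exact (Set.finite_singleton c).subset hc

end top

theorem isSeparated_of {A : Type u} [CommRing A] {X : Scheme.{u}} (f : X ⟶ Spec (CommRingCat.of A))
    [IsSeparated f] : X.IsSeparated := by
  have : IsSeparated (f ≫ terminal.from _) := inferInstance
  have h2 : f ≫ terminal.from _ = terminal.from X := terminal.hom_ext _ _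
  rw [h2] at this
  exact ⟨this⟩

theorem exists_cover {A : Type u} [CommRing A] [IsLocalRing A] {X : Scheme.{u}}
    (f : X ⟶ Spec (CommRingCat.of A)) [IsProper f] {L : X.Modules} (hL : CohB1.IsAmple L)
    (hdim : topologicalKrullDim (f.fiber (IsLocalRing.closedPoint A)) ≤ 1) (x₀ : X) (hx₀ : IsClosed ({x₀} : Set X))
    (y₀ : X) (hy₀ : y₀ ≠ x₀) :
    ∃ U₁ U₂ : X.Opens, IsAffineOpen U₁ ∧ IsAffineOpen U₂ ∧ U₁ ⊔ U₂ = ⊤ ∧ x₀ ∈ U₁ ∧ x₀ ∉ U₂ ∧ y₀ ∈ U₂ := by
  set s : Spec (CommRingCat.of A) := IsLocalRing.closedPoint A with hs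
  have hsep : X.IsSeparated := isSeparated_of f
  have hcpt : CompactSpace X := QuasiCompact.compactSpace_of_compactSpace f
  have hn1 : IsLocallyNoetherian (f.fiber s) := by
    have : IsLocallyNoetherian (Spec ((Spec (CommRingCat.of A)).residueField s)) := inferInstance
    have : LocallyOfFiniteType (f.fiberToSpecResidueField s) := MorphismProperty.pullback_snd _ _ inferInstance
    exact LocallyOfFiniteType.isLocallyNoetherian (f.fiberToSpecResidueField s)
  have hn2 : CompactSpace (f.fiber s) := inferInstance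
  have hn3 : IsNoetherian (f.fiber s) := {}
  have hrange : Set.range (f.fiberι s) = f ⁻¹' {s} := f.range_fiberι s
  -- generic points of the fibre
  let G : Set (f.fiber s) := {y | closure {y} ∈ irreducibleComponents (f.fiber s)}
  have hG : G.Finite := by
    refine Set.Finite.of_finite_image (f := fun y => closure ({y} : Set (f.fiber s))) ?_ ?_
    · exact (NoetherianSpace.finite_irreducibleComponents (α := f.fiber s)).subset (by rintro _ ⟨y, hy, rfl⟩; exact hy)
    · intro y _ z _ hyz
      exact (inseparable_iff_closure_eq.2 hyz).eq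
  let F₁ : Set X := {x₀} ∪ f.fiberι s '' G
  have hF₁ : F₁.Finite := (Set.finite_singleton _).union (hG.image _)
  obtain ⟨n₁, s₁, hFU, -, hU₁⟩ := Ega2.FiniteSet.exists_affine_genLocus_of_finite hL F₁ hF₁ ⊤ (Set.subset_univ _)
  set U₁ := CohB1.genLocus _ s₁ with hU₁def
  -- the rest of the fibre
  let C : Set (f.fiber s) := (f.fiberι s ⁻¹' (U₁ : Set X))ᶜ
  have hC : IsClosed C := (U₁.isOpen.preimage (f.fiberι s).continuous).isClosed_compl
  have hCf : C.Finite := finite_of_isClosed hdim C hC fun c hc hcG =>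
    hc (hFU (Or.inr ⟨c, hcG, rfl⟩))
  have hx₀U : x₀ ∈ U₁ := hFU (Or.inl rfl)
  obtain ⟨n₂, s₂, hCU, hU₂s, hU₂⟩ := Ega2.FiniteSet.exists_affine_genLocus_of_finite hL ({y₀} ∪ f.fiberι s '' C)
    ((Set.finite_singleton _).union (hCf.image _)) ⟨{x₀}ᶜ, hx₀.isOpen_compl⟩ (by
      rintro _ (rfl | ⟨c, hc, rfl⟩) h0
      · exact hy₀ h0
      · apply hc
        change f.fiberι s c ∈ U₁
        rw [show f.fiberι s c = x₀ from h0]
        exact hx₀U)
  set U₂ := CohB1.genLocus _ s₂ with hU₂def
  refine ⟨U₁, U₂, hU₁, hU₂, ?_, hx₀U, fun h => hU₂s h rfl, hCU (Or.inl rfl)⟩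
  by_contra hne
  have hcl : IsClosed (f '' ((U₁ ⊔ U₂ : X.Opens) : Set X)ᶜ) :=
    f.isClosedMap _ (U₁ ⊔ U₂).isOpen.isClosed_compl
  have hnonempty : (f '' ((U₁ ⊔ U₂ : X.Opens) : Set X)ᶜ).Nonempty := by
    rw [Set.image_nonempty, Set.nonempty_compl]
    intro e
    exact hne (TopologicalSpace.Opens.ext (by rw [e]; rfl))
  obtain ⟨x, hx, hxs⟩ : s ∈ f '' ((U₁ ⊔ U₂ : X.Opens) : Set X)ᶜ := by
    obtain ⟨y, hy⟩ := hnonempty
    exact (IsLocalRing.specializes_closedPoint y).mem_closed hcl hy
  have hx' : x ∈ Set.range (f.fiberι s) := by rw [hrange]; exact hxs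
  obtain ⟨y, rfl⟩ := hx'
  apply hx
  by_cases hy : y ∈ C
  · exact Or.inr (hCU (Or.inr ⟨y, hy, rfl⟩))
  · exact Or.inl (not_not.1 hy)

end K955.TwoCover
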